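import Cfsg.Agent.CoprimeTransitive.GLTwo

/-!
# Groups with a coprime transitive affine quotient: `p`-regular classes
-/

set_option autoImplicit false
set_option linter.style.haveILetI false
set_option linter.unusedSectionVars false

namespace CfsgLib.CoprimeTrans

open Matrix

universe u v

/-- A homomorphism of `G` onto an affine group `V ⋊ H` with `H` coprime and transitive on the
nonzero vectors, whose kernel has order prime to `p`, given by linear part and translation part. -/
structure AffData (G : Type u) [Group G] (H : Type v) [Group H] (p n : ℕ) [Fact p.Prime] where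
  f : G →* H
  ρ : H →* GL (Fin n) (ZMod p)
  inj : Function.Injective ρ
  trans : IsTransitiveNZ ρ
  coprime : ¬ p ∣ Nat.card H
  b : G → (Fin n → ZMod p)
  cocycle : ∀ g g', b (g * g') = b g + (ρ (f g) : Matrix (Fin n) (Fin n) (ZMod p)) *ᵥ b g'
  full : ∀ h v, ∃ g, f g = h ∧ b g = v
  coprime_ker : ∀ g, f g = 1 → b g = 0 → ¬ p ∣ orderOf g

/-- The `p`-regular classes. -/
abbrev PReg (G : Type u) [Group G] (p : ℕ) : Type u :=
  {c : ConjClasses G // ∃ g : G, ConjClasses.mk g = c ∧ ¬ p ∣ orderOf g}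

namespace AffData

variable {G : Type u} [Group G] [Finite G] {H : Type v} [Group H] [Finite H] {p n : ℕ}
  [Fact p.Prime] (D : AffData G H p n)

theorem f_surjective : Function.Surjective D.f := fun h => by
  obtain ⟨g, hg, -⟩ := D.full h 0
  exact ⟨g, hg⟩

theorem b_one : D.b 1 = 0 := by
  have := D.cocycle 1 1
  rw [one_mul, map_one, map_one, Units.val_one, one_mulVec] at this
  exact left_eq_add.1 this

theorem b_inv (g : G) :
    (D.ρ (D.f g) : Matrix (Fin n) (Fin n) (ZMod p)) *ᵥ D.b g⁻¹ = -D.b g := by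
  have := D.cocycle g g⁻¹
  rw [mul_inv_cancel, b_one] at this
  exact (neg_eq_of_add_eq_zero_right this.symm).symm

theorem b_mul_of_ker {g : G} (hg : D.f g = 1) (g' : G) : D.b (g * g') = D.b g + D.b g' := by
  rw [D.cocycle, hg, map_one, Units.val_one, one_mulVec]

theorem b_pow_of_ker {g : G} (hg : D.f g = 1) : ∀ m : ℕ, D.b (g ^ m) = m • D.b g
  | 0 => by rw [pow_zero, b_one, zero_nsmul]
  | m + 1 => by rw [pow_succ', D.b_mul_of_ker hg, b_pow_of_ker hg m, succ_nsmul']

/-- The kernel of the affine representation. -/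
def kern : Subgroup G where
  carrier := {g | D.f g = 1 ∧ D.b g = 0}
  one_mem' := ⟨map_one _, D.b_one⟩
  mul_mem' := fun {a c} ha hc =>
    ⟨by rw [map_mul, ha.1, hc.1, one_mul], by rw [D.b_mul_of_ker ha.1, ha.2, hc.2, add_zero]⟩
  inv_mem' := fun {a} ha => ⟨by rw [map_inv, ha.1, inv_one], by
    have := D.b_inv a
    rw [ha.1, map_one, Units.val_one, one_mulVec, ha.2, neg_zero] at this
    exact this⟩

theorem mem_kern {g : G} : g ∈ D.kern ↔ D.f g = 1 ∧ D.b g = 0 := Iff.rfl

theorem kern_normal : D.kern.Normal := by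
  refine ⟨fun x hx g => ⟨by rw [map_mul, map_mul, hx.1, map_inv, mul_one, mul_inv_cancel], ?_⟩⟩
  rw [D.cocycle, map_mul, hx.1, mul_one, D.b_inv, D.cocycle g x, hx.2, mulVec_zero, add_zero,
    add_neg_cancel]

theorem not_dvd_card_kern : ¬ p ∣ Nat.card D.kern := fun h => by
  obtain ⟨x, hx⟩ := exists_prime_orderOf_dvd_card' (G := D.kern) p h
  exact D.coprime_ker x x.2.1 x.2.2 (by rw [Subgroup.orderOf_coe, hx])

theorem card_eq : Nat.card G = Nat.card D.kern * (p ^ n * Nat.card H) := by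
  classical
  haveI := D.kern_normal
  rw [← D.kern.card_mul_index]
  congr 1
  let φ : G ⧸ D.kern → H × (Fin n → ZMod p) := Quotient.lift (fun g => (D.f g, D.b g))
    fun g g' hgg => by
      replace hgg : g⁻¹ * g' ∈ D.kern := QuotientGroup.leftRel_apply.1 hgg
      rw [mem_kern] at hgg
      have : g' = g * (g⁻¹ * g') := by group
      rw [this, map_mul, hgg.1, mul_one, D.cocycle, hgg.2, mulVec_zero, add_zero]
  have hb : Function.Bijective φ := by
    constructor
    · intro x y
      induction x using QuotientGroup.induction_on with | _ g => ?_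
      induction y using QuotientGroup.induction_on with | _ g' => ?_
      intro h
      obtain ⟨h1, h2⟩ := Prod.mk.inj (h : (D.f g, D.b g) = (D.f g', D.b g'))
      have hf : D.f (g⁻¹ * g') = 1 := by rw [map_mul, map_inv, h1, inv_mul_cancel]
      refine QuotientGroup.eq.2 ⟨hf, ?_⟩
      have h3 : D.b (g * (g⁻¹ * g')) = D.b g' := by rw [mul_inv_cancel_left]
      rw [D.cocycle, ← h2, add_eq_left] at h3
      exact Matrix.mulVec_injective_of_isUnit (D.ρ (D.f g)).isUnit (by rw [h3, mulVec_zero])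
    · rintro ⟨h, v⟩
      obtain ⟨g, h1, h2⟩ := D.full h v
      exact ⟨(g : G ⧸ D.kern), Prod.ext h1 h2⟩
  rw [Subgroup.index_eq_card, Nat.card_eq_of_bijective φ hb, Nat.card_prod, Nat.card_fun,
    Nat.card_zmod, Nat.card_fin, mul_comm]

/-- An element of `G` has a power with the same image in `H` and order prime to `p`. -/
theorem exists_pregular_lift (h : H) : ∃ g, D.f g = h ∧ ¬ p ∣ orderOf g := by
  have hp : p.Prime := Fact.out
  obtain ⟨g₀, hg₀⟩ := D.f_surjective h
  obtain ⟨a, m, hm, he⟩ := Nat.exists_eq_pow_mul_and_not_dvd (orderOf_pos g₀).ne' p hp.ne_one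
  obtain ⟨t, ht⟩ := exists_pow_eq_self_of_coprime (x := h) (n := p ^ a)
    ((hp.coprime_iff_not_dvd.2 fun hd => D.coprime (hd.trans (orderOf_dvd_natCard h))).pow_left a)
  refine ⟨(g₀ ^ p ^ a) ^ t, by rw [map_pow, map_pow, hg₀, ht], fun hd => hm ?_⟩
  refine hd.trans ((orderOf_pow_dvd t).trans ?_)
  rw [orderOf_pow_of_dvd (pow_ne_zero _ hp.ne_zero) (he ▸ dvd_mul_right _ _), he,
    Nat.mul_div_cancel_left _ (pow_pos hp.pos a)]

/-- The map from `p`-regular classes to the classes of `H`. -/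
def classMap (c : PReg G p) : ConjClasses H := ConjClasses.map D.f c.1

theorem classMap_mk {g : G} (hg : ¬ p ∣ orderOf g) :
    D.classMap ⟨ConjClasses.mk g, g, rfl, hg⟩ = ConjClasses.mk (D.f g) := rfl

theorem classMap_surjective : Function.Surjective D.classMap := fun c => by
  induction c using Quotient.inductionOn with | _ h => ?_
  obtain ⟨g, hg, hpg⟩ := D.exists_pregular_lift h
  exact ⟨⟨ConjClasses.mk g, g, rfl, hpg⟩, congrArg ConjClasses.mk hg⟩

include D in
theorem classes_le : Nat.card (ConjClasses H) ≤ Nat.card (PReg G p) :=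
  Nat.card_le_card_of_surjective _ D.classMap_surjective

/-- Two redundant elements of the domain of a surjection. -/
theorem card_add_two_le {α β : Type*} [Finite α] (φ : α → β) {a c : α} (hac : a ≠ c)
    (hsurj : ∀ y, ∃ x, x ≠ a ∧ x ≠ c ∧ φ x = y) : Nat.card β + 2 ≤ Nat.card α := by
  classical
  have h1 : Nat.card β ≤ Nat.card (({a, c} : Set α)ᶜ : Set α) :=
    Nat.card_le_card_of_surjective (fun x => φ x.1) fun y => by
      obtain ⟨x, hx1, hx2, hx3⟩ := hsurj y
      exact ⟨⟨x, by simp [hx1, hx2]⟩, hx3⟩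
  have h2 := Set.ncard_add_ncard_compl ({a, c} : Set α)
  rw [Set.ncard_pair hac] at h2
  rw [Nat.card_coe_set_eq] at h1
  omega

theorem classes_succ_le (hK : D.kern ≠ ⊥) :
    Nat.card (ConjClasses H) + 1 ≤ Nat.card (PReg G p) := by
  classical
  haveI : Finite (ConjClasses H) := inferInstanceAs (Finite (Quotient _))
  haveI : Finite (ConjClasses G) := inferInstanceAs (Finite (Quotient _))
  obtain ⟨x, hxK, hx1⟩ := (Subgroup.ne_bot_iff_exists_ne_one.1 hK).elim
    fun x hx => (⟨x.1, x.2, fun h => hx (Subtype.ext h)⟩ : ∃ x, x ∈ D.kern ∧ x ≠ 1)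
  refine Nat.succ_le_of_lt (lt_of_le_of_ne D.classes_le fun he => ?_)
  have hinj := ((Nat.bijective_iff_surjective_and_card D.classMap).2
    ⟨D.classMap_surjective, he.symm⟩).1
  have h := hinj (a₁ := ⟨ConjClasses.mk x, x, rfl, D.coprime_ker x hxK.1 hxK.2⟩)
    (a₂ := ⟨ConjClasses.mk 1, 1, rfl, by rw [orderOf_one]; exact (Fact.out : p.Prime).not_dvd_one⟩)
    (show ConjClasses.mk (D.f x) = ConjClasses.mk (D.f 1) by rw [hxK.1, map_one])
  exact hx1 (isConj_one_right.1 (ConjClasses.mk_eq_mk_iff_isConj.1 (congrArg Subtype.val h)).symm)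

/-- Freeness of the action on nonzero vectors. -/
def IsFreeNZ : Prop :=
  ∀ (h : H) (v : Fin n → ZMod p), v ≠ 0 →
    (D.ρ h : Matrix (Fin n) (Fin n) (ZMod p)) *ᵥ v = v → h = 1

theorem exists_conj_mod (hfree : D.IsFreeNZ) {g g' : G} (hg : D.f g ≠ 1) (hgg : D.f g = D.f g') :
    ∃ x, D.f x = 1 ∧ (x * g * x⁻¹)⁻¹ * g' ∈ D.kern := by
  set M : Matrix (Fin n) (Fin n) (ZMod p) := (D.ρ (D.f g) : Matrix (Fin n) (Fin n) (ZMod p)) with hM
  have hinj : Function.Injective fun v : Fin n → ZMod p => v - M *ᵥ v := fun v w hvw => by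
    by_contra hne
    refine hg (hfree _ (v - w) (sub_ne_zero.2 hne) ?_)
    simp only [← hM, mulVec_sub] at hvw ⊢
    funext i
    have h := congrFun hvw i
    simp only [Pi.sub_apply] at h ⊢
    linear_combination -h
  obtain ⟨v, hv⟩ := (Finite.injective_iff_surjective.1 hinj) (D.b g' - D.b g)
  obtain ⟨x, hx1, hx2⟩ := D.full 1 v
  have hf : D.f (x * g * x⁻¹) = D.f g := by rw [map_mul, map_mul, hx1, map_inv, hx1]; simp
  have hb : D.b (x * g * x⁻¹) = D.b g' := by
    have hxi : D.b x⁻¹ = -v := by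
      have := D.b_inv x
      rwa [hx1, map_one, Units.val_one, one_mulVec, hx2] at this
    rw [mul_assoc, D.b_mul_of_ker hx1, D.cocycle, hxi, hx2, ← hM, mulVec_neg]
    simp only at hv
    rw [eq_sub_iff_add_eq] at hv
    rw [← hv]
    abel
  refine ⟨x, hx1, by rw [map_mul, map_inv, hf, ← hgg, inv_mul_cancel], ?_⟩
  have h3 : D.b (x * g * x⁻¹ * ((x * g * x⁻¹)⁻¹ * g')) = D.b g' := by rw [mul_inv_cancel_left]
  rw [D.cocycle, hb, add_eq_left] at h3
  exact Matrix.mulVec_injective_of_isUnit (D.ρ _).isUnit (by rw [h3, mulVec_zero])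

theorem not_dvd_orderOf_of_free (hfree : D.IsFreeNZ) {g : G} (hg : D.f g ≠ 1) :
    ¬ p ∣ orderOf g := by
  have hp : p.Prime := Fact.out
  set m := orderOf (D.f g) with hm
  have hf : D.f (g ^ m) = 1 := by rw [map_pow, hm, pow_orderOf_eq_one]
  have hb : D.b (g ^ m) = 0 := by
    by_contra hne
    refine hg (hfree _ _ hne ?_)
    have h1 := D.cocycle g (g ^ m)
    rw [← pow_succ', pow_succ, D.b_mul_of_ker hf, add_comm] at h1
    exact (add_left_cancel h1).symm
  intro hd
  have hdvd : orderOf g ∣ m * orderOf (g ^ m) := by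
    rw [orderOf_dvd_iff_pow_eq_one, pow_mul, pow_orderOf_eq_one]
  rcases hp.dvd_mul.1 (hd.trans hdvd) with h | h
  · exact D.coprime (h.trans (orderOf_dvd_natCard _))
  · exact D.coprime_ker _ hf hb h

theorem classes_eq (hfree : D.IsFreeNZ) (hK : D.kern = ⊥) :
    Nat.card (PReg G p) = Nat.card (ConjClasses H) := by
  refine Nat.card_eq_of_bijective _ ⟨?_, D.classMap_surjective⟩
  rintro ⟨c, g, rfl, hg⟩ ⟨c', g', rfl, hg'⟩ h
  rw [D.classMap_mk hg, D.classMap_mk hg'] at h
  refine Subtype.ext (ConjClasses.mk_eq_mk_iff_isConj.2 ?_)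
  obtain ⟨y, hy⟩ := isConj_iff.1 (ConjClasses.mk_eq_mk_iff_isConj.1 h)
  have hone : ∀ {g : G}, ¬ p ∣ orderOf g → D.f g = 1 → g = 1 := fun {g} hg h1 => by
    have hmem : g ^ p ∈ D.kern := by
      refine ⟨by rw [map_pow, h1, one_pow], ?_⟩
      rw [D.b_pow_of_ker h1]
      ext i
      simp
    rw [hK, Subgroup.mem_bot] at hmem
    rcases (Nat.dvd_prime Fact.out).1 (orderOf_dvd_of_pow_eq_one hmem) with h | h
    · exact orderOf_eq_one_iff.1 h
    · exact absurd h.symm.dvd hg
  by_cases h1 : D.f g = 1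
  · have h1' : D.f g' = 1 := by rw [← hy, h1, mul_one, mul_inv_cancel]
    rw [hone hg h1, hone hg' h1']
  obtain ⟨z, rfl⟩ := D.f_surjective y
  have hne : D.f (z * g * z⁻¹) ≠ 1 := fun h' => h1 (by
    rw [map_mul, map_mul, map_inv, conj_eq_one_iff] at h'
    exact h')
  obtain ⟨x, -, hx⟩ := D.exists_conj_mod hfree (g' := g') hne
    (by rw [map_mul, map_mul, map_inv, hy])
  rw [hK, Subgroup.mem_bot, inv_mul_eq_one] at hx
  exact isConj_iff.2 ⟨x * z, by rw [← hx]; group⟩

end AffData

end CfsgLib.CoprimeTrans
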