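import Cfsg.Agent.CoprimeTransitive.Semilinear
import Cfsg.Agent.FrobComp.NonSolvable
import Cfsg.Agent.Linear.Basic

/-!
# The class number of a coprime transitive linear group
-/

set_option autoImplicit false
set_option linter.style.haveILetI false
set_option linter.unusedSectionVars false

namespace CfsgLib.CoprimeTrans

open Matrix

variable {H : Type*} [Group H] [Finite H] {p n : ℕ} [Fact p.Prime]

/-- **The class number of a transitive coprime linear group is at least `p`**, up to two
exceptions. -/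
theorem classes_bound (ρ : H →* GL (Fin n) (ZMod p)) (hinj : Function.Injective ρ)
    (hco : ¬ p ∣ Nat.card H) (ht : IsTransitiveNZ ρ) (hn : 1 ≤ n) :
    p ≤ Nat.card (ConjClasses H) ∨
      (n = 1 ∧ Nat.card (ConjClasses H) = p - 1 ∧ Nat.card H = p - 1) ∨
      (p = 11 ∧ n = 2 ∧ Nat.card H = 120 ∧ Nat.card (ConjClasses H) = 9 ∧
        Nat.card (scalars ρ) = 2) := by
  have hp : p.Prime := Fact.out
  have hdiv := pow_sub_one_dvd_card ρ ht hn
  by_cases hn1 : n = 1
  · subst hn1
    refine Or.inr (Or.inl ⟨rfl, ?_⟩)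
    have hcomm : ∀ a b : H, a * b = b * a := fun a b => hinj (Units.ext (by
      rw [map_mul, map_mul, Units.val_mul, Units.val_mul]
      ext i j
      fin_cases i; fin_cases j
      simp [Matrix.mul_apply, mul_comm]))
    have hcard : Nat.card H = p - 1 := by
      refine Nat.dvd_antisymm ?_ (by simpa using hdiv)
      have hall : scalars ρ = ⊤ := by
        refine eq_top_iff.2 fun h _ => (mem_scalars le_rfl).2 ⟨(ρ h : Matrix (Fin 1) (Fin 1) (ZMod p)) 0 0, ?_⟩
        ext i j
        fin_cases i; fin_cases j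
        simp
      have := card_scalars_dvd ρ hinj
      rwa [hall, Subgroup.card_top] at this
    refine ⟨?_, hcard⟩
    rw [← hcard]
    refine (Nat.card_eq_of_bijective ConjClasses.mk ⟨fun a b h => ?_, Quotient.mk_surjective⟩).symm
    obtain ⟨c, hc⟩ := isConj_iff.1 (ConjClasses.mk_eq_mk_iff_isConj.1 h)
    rw [← hc, hcomm c a, mul_inv_cancel_right]
  have hn2 : 2 ≤ n := by omega
  have hcard : p ^ n - 1 ≤ Nat.card H := Nat.le_of_dvd Nat.card_pos hdiv
  have hp2n : p ^ 2 ≤ p ^ n := Nat.pow_le_pow_right hp.pos hn2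
  rcases Nat.lt_or_ge p 5 with hp5 | hp5
  · left
    interval_cases p
    all_goals first
      | (exfalso; revert hp; decide)
      | skip
    · exact two_le_classes (by norm_num at hp2n; omega)
    · exact three_le_classes (by norm_num at hp2n; omega)
  by_cases h2 : n = 2
  · subst h2
    rcases classes_gl_two ρ hinj hco ht hp5 with h | ⟨h1, h2, h3, h4⟩
    · exact Or.inl h
    · exact Or.inr (Or.inr ⟨h1, rfl, h2, h3, h4⟩)
  · exact Or.inl (classes_ge_three ρ hinj hco ht (by omega) hp5)

/-- Noncentral elements have abelian centralizers in `GL(2, p)`. -/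
theorem commute_of_commute_nonscalar (ρ : H →* GL (Fin 2) (ZMod p)) (hinj : Function.Injective ρ)
    {g : H} (hg : g ∉ scalars ρ) {a b : H} (ha : Commute a g) (hb : Commute b g) : Commute a b := by
  have hns : ∀ c, (ρ g : Matrix (Fin 2) (Fin 2) (ZMod p)) ≠ Matrix.scalar (Fin 2) c :=
    fun c hc => hg ((mem_scalars one_le_two).2 ⟨c, hc⟩)
  have hcomm : ∀ {a : H}, Commute a g →
      (ρ a : Matrix (Fin 2) (Fin 2) (ZMod p)) * ρ g = ρ g * ρ a := fun {a} h => by
    rw [← Units.val_mul, ← Units.val_mul, ← map_mul, ← map_mul, h.eq]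
  obtain ⟨x, y, hA⟩ := exists_eq_smul_add_smul hns (hcomm ha)
  obtain ⟨u, w, hB⟩ := exists_eq_smul_add_smul hns (hcomm hb)
  refine hinj (Units.ext ?_)
  rw [map_mul, map_mul, Units.val_mul, Units.val_mul, hA, hB]
  simp only [add_mul, mul_add, Algebra.smul_mul_assoc, Algebra.mul_smul_comm, one_mul, mul_one]
  module

/-- Acting freely on nonzero vectors. -/
theorem free_of_card (ρ : H →* GL (Fin n) (ZMod p)) (ht : IsTransitiveNZ ρ)
    (hcard : Nat.card H = p ^ n - 1) {h : H} {v : Fin n → ZMod p} (hv : v ≠ 0)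
    (hfix : (ρ h : Matrix (Fin n) (Fin n) (ZMod p)) *ᵥ v = v) : h = 1 := by
  classical
  haveI := Fintype.ofFinite H
  let f : H → {w : Fin n → ZMod p // w ≠ 0} := fun g =>
    ⟨(ρ g : Matrix (Fin n) (Fin n) (ZMod p)) *ᵥ v, fun h0 => hv (by
      have := congrArg ((((ρ g)⁻¹ : GL (Fin n) (ZMod p)) : Matrix (Fin n) (Fin n) (ZMod p)) *ᵥ ·) h0
      simpa [Matrix.mulVec_mulVec, ← Units.val_mul] using this)⟩
  have hsurj : Function.Surjective f := fun w => by
    obtain ⟨g, hg⟩ := ht v w hv w.2
    exact ⟨g, Subtype.ext hg⟩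
  have hinj : Function.Injective f := by
    refine ((Nat.bijective_iff_surjective_and_card f).2 ⟨hsurj, ?_⟩).1
    rw [hcard, Nat.card_eq_fintype_card, Fintype.card_subtype_compl, Fintype.card_subtype_eq,
      Fintype.card_fun, ZMod.card, Fintype.card_fin]
  exact hinj (Subtype.ext (by
    show (ρ h : Matrix (Fin n) (Fin n) (ZMod p)) *ᵥ v = (ρ 1 : Matrix (Fin n) (Fin n) (ZMod p)) *ᵥ v
    rw [hfix, map_one, Units.val_one, Matrix.one_mulVec]))

theorem not_isSolvable_psl_two_five :
    ¬ Group.IsSolvable (Matrix.ProjectiveSpecialLinearGroup (Fin 2) (ZMod 5)) := by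
  haveI : Fact (Nat.Prime 5) := ⟨by norm_num⟩
  intro h
  haveI := h
  have h60 := CfsgLib.Linear.card_PSL_two_odd (F := ZMod 5) (by rw [ZMod.card]; decide)
  rw [ZMod.card, show 5 * (5 ^ 2 - 1) = 2 * 60 by norm_num] at h60
  have h60' := Nat.eq_of_mul_eq_mul_left two_pos h60
  haveI hs : IsSimpleGroup (Matrix.ProjectiveSpecialLinearGroup (Fin 2) (ZMod 5)) :=
    Matrix.ProjectiveSpecialLinearGroup.rank_two_simple (by rw [Nat.card_zmod]; norm_num)
  have hc := IsSimpleGroup.comm_iff_isSolvable.2 h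
  haveI : Finite (Matrix.ProjectiveSpecialLinearGroup (Fin 2) (ZMod 5)) := Quotient.finite _
  haveI : Fact (Nat.Prime 2) := ⟨Nat.prime_two⟩
  obtain ⟨x, hx⟩ := exists_prime_orderOf_dvd_card'
    (G := Matrix.ProjectiveSpecialLinearGroup (Fin 2) (ZMod 5)) 2 (by rw [h60']; norm_num)
  have hn : (Subgroup.zpowers x).Normal := ⟨fun a ha g => by rwa [hc g a, mul_inv_cancel_right]⟩
  rcases hs.eq_bot_or_eq_top_of_normal _ hn with h' | h'
  · rw [Subgroup.zpowers_eq_bot] at h'
    rw [h', orderOf_one] at hx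
    omega
  · have h2 := Nat.card_zpowers x
    rw [h', Subgroup.card_top, hx, h60'] at h2
    exact absurd h2 (by norm_num)

/-- The exceptional group is `SL(2, 5)`. -/
theorem exceptional_iso (ρ : H →* GL (Fin 2) (ZMod p)) (hinj : Function.Injective ρ)
    (ht : IsTransitiveNZ ρ) (hp11 : p = 11) (hcard : Nat.card H = 120)
    (hk : Nat.card (ConjClasses H) = 9) (hsc : Nat.card (scalars ρ) = 2) :
    Nonempty (H ≃* Matrix.SpecialLinearGroup (Fin 2) (ZMod 5)) := by
  classical
  subst hp11
  haveI : Fact (Nat.Prime 5) := ⟨by norm_num⟩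
  have hco : ¬ 11 ∣ Nat.card H := by rw [hcard]; norm_num
  have hns : ¬ Group.IsSolvable H := by
    intro hsol
    by_cases hnn : ∀ N : Subgroup H, N.Normal → Nat.card N ≠ 5
    · obtain ⟨τ, hτ⟩ := exists_character (p := 11)
        (((Fact.out : (11 : ℕ).Prime).coprime_iff_not_dvd.2 hco).symm)
        ((Units.coeHom (Matrix (Fin 2) (Fin 2) (ZMod 11))).comp ρ) (fun g h e => hinj (Units.ext e))
      obtain ⟨e⟩ := Cfsg.Agent.S4504.result 5 (by norm_num) (by rw [hcard]; norm_num)
        (by rw [hcard]; norm_num) hnn τ.character (CfsgLib.Characters.isCharacter_character τ)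
        (fun g hg => hτ (((CfsgLib.Codegree.char_eq_one_iff τ g).1 hg).trans (map_one τ).symm))
        (by rw [Cfsg.charDegree, Representation.char_one, Module.finrank_fin_fun]; simp)
      haveI := hsol
      exact not_isSolvable_psl_two_five
        (Group.isSolvable_of_surjective (f := e.toMonoidHom.comp (QuotientGroup.mk' (Subgroup.center H)))
          (e.surjective.comp (QuotientGroup.mk'_surjective _)))
    · push Not at hnn
      obtain ⟨N, hN, hN5⟩ := hnn
      obtain ⟨x, hx⟩ := exists_prime_orderOf_dvd_card' (G := N) 5 (by rw [hN5])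
      have hx' : orderOf (x : H) = 5 := by rw [Subgroup.orderOf_coe, hx]
      have hz : Subgroup.zpowers (x : H) = N :=
        Subgroup.eq_of_le_of_card_ge (Subgroup.zpowers_le.2 x.2) (by rw [Nat.card_zpowers, hx', hN5])
      have hidx := index_centralizer_le ρ hinj (by norm_num : Nat.Prime 5) (by norm_num) hx'
        (fun h => by rw [hz]; exact hN.conj_mem _ x.2 h)
      have hxs : (x : H) ∉ scalars ρ := fun h => by
        have := Subgroup.orderOf_dvd_natCard _ h
        rw [hx', hsc] at this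
        norm_num at this
      have hle := card_le_classes_mul_index (Subgroup.centralizer ({(x : H)} : Set H)) fun a ha b hb => by
        rw [Subgroup.mem_centralizer_singleton_iff] at ha hb
        exact commute_of_commute_nonscalar ρ hinj hxs ha hb
      have hmul := (Subgroup.centralizer ({(x : H)} : Set H)).card_mul_index
      rw [hcard] at hmul
      rw [hk] at hle
      have := Nat.mul_le_mul_right (Subgroup.centralizer ({(x : H)} : Set H)).index hle
      nlinarith
  let σ : H →* AddMonoid.End (Fin 2 → ZMod 11) :=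
    { toFun := fun h => (Matrix.mulVecLin (ρ h : Matrix (Fin 2) (Fin 2) (ZMod 11))).toAddMonoidHom
      map_one' := AddMonoidHom.ext fun v => by
        show (ρ 1 : Matrix (Fin 2) (Fin 2) (ZMod 11)) *ᵥ v = v
        rw [map_one, Units.val_one, Matrix.one_mulVec]
      map_mul' := fun g h => AddMonoidHom.ext fun v => by
        show (ρ (g * h) : Matrix (Fin 2) (Fin 2) (ZMod 11)) *ᵥ v =
          (ρ g : Matrix (Fin 2) (Fin 2) (ZMod 11)) *ᵥ ((ρ h : Matrix (Fin 2) (Fin 2) (ZMod 11)) *ᵥ v)
        rw [map_mul, Units.val_mul, Matrix.mulVec_mulVec] }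
  have hfree : CfsgLib.FrobComp.IsFree σ := fun h h1 v hv => by
    by_contra hv0
    exact h1 (free_of_card ρ ht (by rw [hcard]; norm_num) hv0 hv)
  obtain ⟨N, M, hN, -, ⟨e⟩, -⟩ := CfsgLib.FrobComp.exists_structure_of_not_solvable (p := 11) hfree
    (fun v => ZModModule.char_nsmul_eq_zero 11 v) hns
  have hNcard : Nat.card N = 120 := by
    rw [Nat.card_congr e.toEquiv, CfsgLib.Linear.card_SL_two, ZMod.card]
    norm_num
  have : N = ⊤ := Subgroup.eq_top_of_card_eq _ (by rw [hNcard, hcard])
  exact ⟨((MulEquiv.subgroupCongr this).trans Subgroup.topEquiv).symm.trans e⟩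

end CfsgLib.CoprimeTrans
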