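import Mathlib
import Cfsg.Agent.GroupBasics.Conjugates

/-!
# Elementary lower bounds for the number of conjugacy classes
-/

set_option autoImplicit false
set_option linter.style.haveILetI false

namespace CfsgLib.CoprimeTrans

variable {H : Type*} [Group H] [Finite H]

/-- An abelian subgroup `A` gives at least `|A| / |H : A|` classes. -/
theorem card_le_classes_mul_index (A : Subgroup H) (hA : ∀ a ∈ A, ∀ b ∈ A, a * b = b * a) :
    Nat.card A ≤ Nat.card (ConjClasses H) * A.index := by
  classical
  haveI := Fintype.ofFinite H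
  rw [Nat.card_eq_fintype_card, Nat.card_eq_fintype_card, ← Finset.card_univ, ← Finset.card_univ, mul_comm]
  refine Finset.card_le_mul_card_image_of_maps_to (f := fun a : A => ConjClasses.mk (a : H))
    (fun a _ => Finset.mem_univ _) A.index fun c _ => ?_
  by_cases hne : (Finset.univ.filter fun a : A => ConjClasses.mk (a : H) = c).Nonempty
  · obtain ⟨a₀, ha₀⟩ := hne
    rw [Finset.mem_filter] at ha₀
    have hA' : A ≤ Subgroup.centralizer ({(a₀ : H)} : Set H) := fun b hb => by
      rw [Subgroup.mem_centralizer_singleton_iff]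
      exact hA b hb a₀ a₀.2
    refine le_trans ?_ (Nat.le_of_dvd (Nat.pos_of_ne_zero Subgroup.index_ne_zero_of_finite)
      (Subgroup.index_dvd_of_le hA'))
    rw [← CfsgLib.GroupBasics.card_carrier_eq_index_centralizer, Set.ncard_eq_toFinset_card']
    refine Finset.card_le_card_of_injOn (fun a => (a : H)) (fun a ha => ?_)
      fun a _ b _ h => Subtype.ext h
    rw [Finset.mem_coe, Finset.mem_filter] at ha
    rw [Finset.mem_coe, Set.mem_toFinset, ConjClasses.mem_carrier_iff_mk_eq, ha.2, ha₀.2]
  · rw [Finset.not_nonempty_iff_eq_empty.1 hne]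
    exact Nat.zero_le _

/-- Elements of pairwise distinct orders give distinct classes. -/
theorem card_le_classes_of_orders {ι : Type*} [Fintype ι] (f : ι → H)
    (hf : Function.Injective fun i => orderOf (f i)) : Fintype.card ι ≤ Nat.card (ConjClasses H) := by
  rw [← Nat.card_eq_fintype_card]
  refine Nat.card_le_card_of_injective (fun i => ConjClasses.mk (f i)) fun i j h => hf ?_
  obtain ⟨c, hc⟩ := isConj_iff.1 (ConjClasses.mk_eq_mk_iff_isConj.1 h)
  show orderOf (f i) = orderOf (f j)
  rw [← hc, ← MulAut.conj_apply, MulEquiv.orderOf_eq]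

/-- A nontrivial group has at least two classes. -/
theorem two_le_classes (h : 1 < Nat.card H) : 2 ≤ Nat.card (ConjClasses H) := by
  haveI : Nontrivial H := Finite.one_lt_card_iff_nontrivial.1 h
  obtain ⟨x, hx⟩ := exists_ne (1 : H)
  haveI := Fintype.ofFinite (ConjClasses H)
  rw [Nat.card_eq_fintype_card]
  refine Fintype.one_lt_card_iff.2 ⟨ConjClasses.mk 1, ConjClasses.mk x, fun h => hx ?_⟩
  exact isConj_one_right.1 (ConjClasses.mk_eq_mk_iff_isConj.1 h)

/-- A group of order at least three has at least three classes. -/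
theorem three_le_classes (h : 3 ≤ Nat.card H) : 3 ≤ Nat.card (ConjClasses H) := by
  classical
  haveI := Fintype.ofFinite H
  by_contra hlt
  have h2 : Fintype.card (ConjClasses H) = 2 := by
    have := two_le_classes (H := H) (by omega)
    rw [← Nat.card_eq_fintype_card]; omega
  haveI : Nontrivial H := Finite.one_lt_card_iff_nontrivial.1 (by omega)
  obtain ⟨x, hx⟩ := exists_ne (1 : H)
  -- every nontrivial element is conjugate to `x`
  have hall : ∀ y : H, y ≠ 1 → ConjClasses.mk y = ConjClasses.mk x := by
    intro y hy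
    by_contra hne
    have hs : ({ConjClasses.mk 1, ConjClasses.mk x, ConjClasses.mk y} : Finset (ConjClasses H)).card = 3 := by
      refine Finset.card_eq_three.2 ⟨_, _, _, ?_, ?_, ?_, rfl⟩
      · exact fun h => hx (isConj_one_right.1 (ConjClasses.mk_eq_mk_iff_isConj.1 h))
      · exact fun h => hy (isConj_one_right.1 (ConjClasses.mk_eq_mk_iff_isConj.1 h))
      · exact fun h => hne h.symm
    have := Finset.card_le_univ ({ConjClasses.mk 1, ConjClasses.mk x, ConjClasses.mk y} : Finset (ConjClasses H))
    omega
  have hcl : (ConjClasses.mk x).carrier = {(1 : H)}ᶜ := by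
    ext y
    rw [ConjClasses.mem_carrier_iff_mk_eq, Set.mem_compl_iff, Set.mem_singleton_iff]
    exact ⟨fun h hy => hx (isConj_one_right.1 (ConjClasses.mk_eq_mk_iff_isConj.1 (hy ▸ h))), hall y⟩
  have hdvd : (ConjClasses.mk x).carrier.ncard ∣ Nat.card H := by
    rw [CfsgLib.GroupBasics.card_carrier_eq_index_centralizer]
    exact Subgroup.index_dvd_card _
  rw [hcl, Set.ncard_compl, Set.ncard_singleton] at hdvd
  have h1 : Nat.card H - (Nat.card H - 1) = 1 := by omega
  have h2 : Nat.card H - 1 ∣ 1 := by
    have h3 := Nat.dvd_sub hdvd (dvd_refl (Nat.card H - 1))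
    rwa [h1] at h3
  have := Nat.le_of_dvd one_pos h2
  omega

end CfsgLib.CoprimeTrans
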