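import Mathlib

/-!
# Countable fields of characteristic zero embed into the complex numbers
-/

set_option autoImplicit false
set_option linter.style.haveILetI false

namespace CfsgLib.CoprimeTrans

open Cardinal

/-- A countable field of characteristic zero has a ring homomorphism into the complex numbers. -/
theorem exists_embedding (K : Type) [Field K] [CharZero K] (hK : #K ≤ ℵ₀) :
    Nonempty (K →+* ℂ) := by
  set R := MvPolynomial ℂ K with hR
  set L := AlgebraicClosure (FractionRing R) with hL
  haveI : CharZero R := charZero_of_injective_algebraMap (algebraMap K R).injective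
  haveI : CharZero (FractionRing R) :=
    charZero_of_injective_algebraMap (IsFractionRing.injective R (FractionRing R))
  haveI : CharZero L := charZero_of_injective_algebraMap (algebraMap (FractionRing R) L).injective
  have hc : ℵ₀ < #ℂ := by rw [Cardinal.mk_complex]; exact Cardinal.aleph0_lt_continuum
  have hRc : #R = #ℂ := by
    rw [hR, MvPolynomial.cardinalMk_eq_max]
    rw [max_eq_right (hK.trans hc.le), max_eq_left hc.le]
  have hFc : #(FractionRing R) = #ℂ := by rw [Cardinal.mk_fractionRing, hRc]
  have hLc : #L = #ℂ := by
    apply le_antisymm
    · refine (Algebra.IsAlgebraic.cardinalMk_le_max (FractionRing R) L).trans ?_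
      rw [hFc, max_eq_left hc.le]
    · rw [← hFc]
      exact Cardinal.mk_le_of_injective (algebraMap (FractionRing R) L).injective
  obtain ⟨e⟩ := IsAlgClosed.ringEquiv_of_equiv_of_charZero (K := L) (L := ℂ)
    (by rw [hLc]; exact hc) (Cardinal.eq.1 hLc)
  exact ⟨e.toRingHom.comp ((algebraMap (FractionRing R) L).comp
    ((algebraMap R (FractionRing R)).comp (algebraMap K R)))⟩

end CfsgLib.CoprimeTrans
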