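import Cfsg.Agent.CoprimeTransitive.AffineData
import Cfsg.Agent.CoprimeTransitive.Bound
import Cfsg.Agent.BlocksCharsC.PGroupCenter

/-!
# The exceptional case `p = 11`: a nontrivial `O_{p'}` forces at least `11` classes
-/

set_option autoImplicit false
set_option linter.style.haveILetI false
set_option linter.unusedSectionVars false

namespace CfsgLib.CoprimeTrans

open Matrix

universe u v

variable {G : Type u} [Group G] [Finite G] {H : Type v} [Group H] [Finite H]

/-- Orbit-stabilizer for conjugation, relative to a set of conjugates. -/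
theorem card_conj_eq_mul (g : G) (P : G → Prop) (hP : ∀ y, P y → IsConj g y) :
    Nat.card {x : G // P (x * g * x⁻¹)} =
      Nat.card {y : G // P y} * Nat.card (Subgroup.centralizer ({g} : Set G)) := by
  classical
  choose r hr using fun y : {y : G // P y} => isConj_iff.1 (hP y y.2)
  rw [← Nat.card_prod]
  refine (Nat.card_eq_of_bijective
    (fun q : {y : G // P y} × Subgroup.centralizer ({g} : Set G) =>
      (⟨r q.1 * q.2, by
        have hc := Subgroup.mem_centralizer_singleton_iff.1 q.2.2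
        have : r q.1 * (q.2 : G) * g * (r q.1 * (q.2 : G))⁻¹ = (q.1 : G) := by
          rw [mul_assoc (r q.1), hc, ← hr q.1]
          group
        rw [this]
        exact q.1.2⟩ : {x : G // P (x * g * x⁻¹)})) ⟨?_, ?_⟩).symm
  · rintro ⟨y, c⟩ ⟨y', c'⟩ h
    have h' : r y * (c : G) = r y' * (c' : G) := congrArg Subtype.val h
    have key : ∀ (z : {y : G // P y}) (d : Subgroup.centralizer ({g} : Set G)),
        r z * (d : G) * g * (r z * (d : G))⁻¹ = (z : G) := fun z d => by
      have hc := Subgroup.mem_centralizer_singleton_iff.1 d.2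
      rw [mul_assoc (r z), hc, ← hr z]
      group
    obtain rfl : y = y' := Subtype.ext (by rw [← key y c, ← key y' c', h'])
    rw [mul_right_inj] at h'
    rw [Subtype.ext h']
  · rintro ⟨x, hx⟩
    refine ⟨(⟨x * g * x⁻¹, hx⟩, ⟨(r ⟨x * g * x⁻¹, hx⟩)⁻¹ * x, ?_⟩), Subtype.ext ?_⟩
    · rw [Subgroup.mem_centralizer_singleton_iff]
      have h := hr ⟨x * g * x⁻¹, hx⟩
      simp only at h
      calc (r ⟨x * g * x⁻¹, hx⟩)⁻¹ * x * g
          = (r ⟨x * g * x⁻¹, hx⟩)⁻¹ * (x * g * x⁻¹) * x := by group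
        _ = (r ⟨x * g * x⁻¹, hx⟩)⁻¹ *
              (r ⟨x * g * x⁻¹, hx⟩ * g * (r ⟨x * g * x⁻¹, hx⟩)⁻¹) * x := by rw [h]
        _ = g * ((r ⟨x * g * x⁻¹, hx⟩)⁻¹ * x) := by group
    · exact mul_inv_cancel_left _ _

/-- If the fibre of `g` is one class, centralizer orders are preserved. -/
theorem card_centralizer_eq {f : G →* H} (hf : Function.Surjective f) (g : G)
    (hconj : ∀ g', f g' = f g → IsConj g g') :
    Nat.card (Subgroup.centralizer ({g} : Set G)) =
      Nat.card (Subgroup.centralizer ({f g} : Set H)) := by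
  have h1 := card_conj_eq_mul g (fun y => f y = f g) hconj
  have hF : Nat.card {y : G // f y = f g} = Nat.card f.ker :=
    Nat.card_congr
      { toFun := fun y => ⟨g⁻¹ * y, by rw [MonoidHom.mem_ker, map_mul, map_inv, y.2, inv_mul_cancel]⟩
        invFun := fun k => ⟨g * k, by rw [map_mul, MonoidHom.mem_ker.1 k.2, mul_one]⟩
        left_inv := fun y => Subtype.ext (mul_inv_cancel_left _ _)
        right_inv := fun k => Subtype.ext (inv_mul_cancel_left _ _) }
  have hD : {x : G // f (x * g * x⁻¹) = f g} ≃ (Subgroup.centralizer ({f g} : Set H)).comap f :=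
    Equiv.subtypeEquivRight fun x => by
      rw [Subgroup.mem_comap, Subgroup.mem_centralizer_singleton_iff, map_mul, map_mul, map_inv,
        mul_inv_eq_iff_eq_mul]
  have hG : Nat.card f.ker * Nat.card H = Nat.card G := by
    have := f.ker.card_mul_index
    rwa [Subgroup.index_ker, MonoidHom.range_eq_top.2 hf, Subgroup.card_top] at this
  have h2 := ((Subgroup.centralizer ({f g} : Set H)).comap f).card_mul_index
  rw [Subgroup.index_comap_of_surjective _ hf, ← Nat.card_congr hD, h1, hF, ← hG] at h2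
  have h3 := (Subgroup.centralizer ({f g} : Set H)).card_mul_index
  rw [← h3, ← mul_assoc] at h2
  exact Nat.eq_of_mul_eq_mul_left Nat.card_pos
    (Nat.eq_of_mul_eq_mul_right (Nat.pos_of_ne_zero Subgroup.index_ne_zero_of_finite) h2)

/-- An element of prime power order lifts to an element of prime power order. -/
theorem exists_primePow_lift {f : G →* H} (hf : Function.Surjective f) {s j : ℕ} (hs : s.Prime)
    {h : H} (hh : orderOf h = s ^ j) : ∃ g, f g = h ∧ ∃ i, orderOf g = s ^ i := by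
  obtain ⟨g₀, rfl⟩ := hf h
  obtain ⟨a, m, hm, he⟩ := Nat.exists_eq_pow_mul_and_not_dvd (orderOf_pos g₀).ne' s hs.ne_one
  obtain ⟨t, ht⟩ := exists_pow_eq_self_of_coprime (x := f g₀) (n := m)
    (by rw [hh]; exact ((hs.coprime_iff_not_dvd.2 hm).symm).pow_right j)
  refine ⟨(g₀ ^ m) ^ t, by rw [map_pow, map_pow, ht], ?_⟩
  have hm0 : m ≠ 0 := fun h => hm (h ▸ dvd_zero s)
  have h1 : orderOf (g₀ ^ m) = s ^ a := by
    rw [orderOf_pow_of_dvd hm0 (he ▸ dvd_mul_left _ _), he, Nat.mul_div_cancel _ (Nat.pos_of_ne_zero hm0)]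
  obtain ⟨i, -, hi⟩ := (Nat.dvd_prime_pow hs).1 (h1 ▸ orderOf_pow_dvd (x := g₀ ^ m) t)
  exact ⟨i, hi⟩

/-- A prime dividing the order of the kernel enlarges the centralizer of a suitable lift. -/
theorem pow_succ_dvd_centralizer {f : G →* H} (hf : Function.Surjective f) (K : Subgroup G)
    [K.Normal] (hK : K ≤ f.ker) {s j : ℕ} (hs : s.Prime) (hsK : s ∣ Nat.card K) {h : H}
    (hh : orderOf h = s ^ j) :
    ∃ g, f g = h ∧ s ^ (j + 1) ∣ Nat.card (Subgroup.centralizer ({g} : Set G)) := by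
  classical
  haveI : Fact s.Prime := ⟨hs⟩
  obtain ⟨g, hg, i, hi⟩ := exists_primePow_lift hf hs hh
  refine ⟨g, hg, ?_⟩
  have hgc : g ∈ Subgroup.centralizer ({g} : Set G) := Subgroup.mem_centralizer_singleton_iff.2 rfl
  by_cases hij : j + 1 ≤ i
  · exact (pow_dvd_pow s hij).trans (hi ▸ Subgroup.orderOf_dvd_natCard _ hgc)
  have hji : j ≤ i := by
    have := hh ▸ hg ▸ orderOf_map_dvd f g
    rw [hi] at this
    exact (Nat.pow_dvd_pow_iff_le_right hs.one_lt).1 this
  obtain rfl : i = j := by omega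
  obtain ⟨S, hS⟩ := (IsPGroup.of_card (n := i) (by rw [Nat.card_zpowers, hi]) :
    IsPGroup s (Subgroup.zpowers g)).exists_le_sylow
  have hgS : g ∈ (S : Subgroup G) := hS (Subgroup.mem_zpowers g)
  haveI : Nontrivial (K.subgroupOf (S : Subgroup G)) := by
    obtain ⟨w, hw⟩ := exists_prime_orderOf_dvd_card' (G := K) s hsK
    have hw' : orderOf (w : G) = s := by rw [Subgroup.orderOf_coe, hw]
    obtain ⟨S', hS'⟩ := (IsPGroup.of_card (n := 1) (by rw [Nat.card_zpowers, hw', pow_one]) :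
      IsPGroup s (Subgroup.zpowers (w : G))).exists_le_sylow
    obtain ⟨c, hc⟩ := MulAction.exists_smul_eq G S' S
    refine (Subgroup.nontrivial_iff_ne_bot _).2 fun hb => ?_
    have hcS : c * (w : G) * c⁻¹ ∈ (S : Subgroup G) := by
      rw [← hc, Sylow.coe_subgroup_smul]
      exact Subgroup.smul_mem_pointwise_smul _ _ _ (hS' (Subgroup.mem_zpowers _))
    have hmem : (⟨c * (w : G) * c⁻¹, hcS⟩ : (S : Subgroup G)) ∈ K.subgroupOf (S : Subgroup G) :=
      ‹K.Normal›.conj_mem _ w.2 c
    rw [hb, Subgroup.mem_bot] at hmem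
    have h1 : c * (w : G) * c⁻¹ = 1 := congrArg Subtype.val hmem
    rw [conj_eq_one_iff] at h1
    rw [h1, orderOf_one] at hw'
    exact hs.one_lt.ne hw'
  have hne := CfsgLib.BlocksCharsC.inf_center_ne_bot S.isPGroup' (K.subgroupOf (S : Subgroup G))
  have hd : s ∣ Nat.card ↥(K.subgroupOf (S : Subgroup G) ⊓ Subgroup.center (S : Subgroup G)) :=
    (S.isPGroup'.to_subgroup _).card_eq_or_dvd.resolve_left
      fun h1 => hne (Subgroup.card_eq_one.1 h1)
  obtain ⟨w, hw⟩ := exists_prime_orderOf_dvd_card'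
    (G := ↥(K.subgroupOf (S : Subgroup G) ⊓ Subgroup.center (S : Subgroup G))) s hd
  set w' : G := ((w : (S : Subgroup G)) : G) with hw'
  have hwo : orderOf w' = s := by rw [hw', Subgroup.orderOf_coe, Subgroup.orderOf_coe, hw]
  have hwK : w' ∈ K := w.2.1
  have hgw : Commute g w' :=
    congrArg Subtype.val (Subgroup.mem_center_iff.1 w.2.2 ⟨g, hgS⟩)
  have hcomm : ∀ (a : Subgroup.zpowers g) (c : Subgroup.zpowers w'),
      Commute ((Subgroup.zpowers g).subtype a) ((Subgroup.zpowers w').subtype c) := by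
    rintro ⟨a, m, rfl⟩ ⟨c, l, rfl⟩
    exact hgw.zpow_zpow m l
  let φ := MonoidHom.noncommCoprod (Subgroup.zpowers g).subtype (Subgroup.zpowers w').subtype hcomm
  have hinj : Function.Injective φ := by
    refine (injective_iff_map_eq_one φ).2 ?_
    rintro ⟨⟨a, m, rfl⟩, ⟨c, hc⟩⟩ h1
    have h1' : g ^ m * c = 1 := h1
    have hcK : c ∈ f.ker := hK ((Subgroup.zpowers_le.2 hwK) hc)
    have hm : (orderOf g : ℤ) ∣ m := by
      have h2 := congrArg f h1'
      rw [map_mul, map_zpow, MonoidHom.mem_ker.1 hcK, mul_one, map_one, hg,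
        ← orderOf_dvd_iff_zpow_eq_one, hh, ← hi] at h2
      exact h2
    have hg1 : g ^ m = 1 := orderOf_dvd_iff_zpow_eq_one.1 hm
    rw [hg1, one_mul] at h1'
    exact Prod.ext (Subtype.ext hg1) (Subtype.ext h1')
  have hrange : φ.range ≤ Subgroup.centralizer ({g} : Set G) := by
    rintro _ ⟨⟨⟨a, m, rfl⟩, ⟨c, l, rfl⟩⟩, rfl⟩
    rw [Subgroup.mem_centralizer_singleton_iff]
    exact (((Commute.refl g).zpow_left m).mul_left (hgw.symm.zpow_left l)).eq
  have := Subgroup.card_dvd_of_le hrange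
  rwa [← Nat.card_congr (MonoidHom.ofInjective hinj).toEquiv, Nat.card_prod, Nat.card_zpowers,
    Nat.card_zpowers, hi, hwo, ← pow_succ] at this

/-- A finite abelian group of exponent dividing `4` with at most one involution has order at
most `4`. -/
theorem card_le_four {A : Type*} [CommGroup A] [Finite A] (h4 : ∀ x : A, x ^ 4 = 1)
    (h2 : Nat.card (powMonoidHom 2 : A →* A).ker ≤ 2) : Nat.card A ≤ 4 := by
  have h := (powMonoidHom 2 : A →* A).ker.card_mul_index
  rw [Subgroup.index_ker] at h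
  have hle : Nat.card (powMonoidHom 2 : A →* A).range ≤ Nat.card (powMonoidHom 2 : A →* A).ker := by
    refine Subgroup.card_le_of_le ?_
    rintro _ ⟨x, rfl⟩
    rw [MonoidHom.mem_ker]
    show (x ^ 2) ^ 2 = 1
    rw [← pow_mul]
    exact h4 x
  calc Nat.card A = _ := h.symm
    _ ≤ 2 * 2 := Nat.mul_le_mul h2 (hle.trans h2)

namespace AffData

theorem arith_kern {K c : ℕ} (hK : 2 ≤ K) (h11 : ¬ 11 ∣ K) (h : K * (11 ^ 2 * 120) = (K - 1) * c)
    (hc : Nat.Coprime c 120) : K = 1321 ∨ K = 14521 := by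
  have hK120 : 120 ∣ K - 1 :=
    (Nat.Coprime.dvd_of_dvd_mul_right hc.symm (h ▸ Dvd.intro_left (K * 11 ^ 2) (by ring)))
  have hKc : K ∣ c := by
    refine Nat.Coprime.dvd_of_dvd_mul_left ?_ (h ▸ Dvd.intro _ rfl)
    have h1 := Nat.coprime_self_add_left (m := K - 1) (n := 1)
    rw [Nat.coprime_one_left_iff, show K - 1 + 1 = K by omega] at h1
    exact h1.2 trivial
  obtain ⟨d, hd⟩ := hK120
  obtain ⟨e, rfl⟩ := hKc
  have h1 : d * e = 11 ^ 2 := by
    rw [hd] at h
    have : K * (11 ^ 2 * 120) = K * ((d * e) * 120) := by rw [h]; ring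
    exact (Nat.eq_of_mul_eq_mul_right (by norm_num) (Nat.eq_of_mul_eq_mul_left (by omega) this)).symm
  obtain ⟨i, hi, rfl⟩ := (Nat.dvd_prime_pow (by norm_num : Nat.Prime 11)).1 (Dvd.intro e h1)
  interval_cases i
  · exfalso
    exact h11 ⟨11, by omega⟩
  · left; omega
  · right; omega

variable {p n : ℕ} [Fact p.Prime] (D : AffData G H p n)

theorem eq_of_involutions (hfree : D.IsFreeNZ) {t t' : H} (ht : orderOf t = 2)
    (ht' : orderOf t' = 2) : t = t' := by
  have key : ∀ {t : H}, orderOf t = 2 → ∀ v,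
      (D.ρ t : Matrix (Fin n) (Fin n) (ZMod p)) *ᵥ v = -v := by
    intro t ht v
    have h2 : t * t = 1 := by rw [← pow_two]; exact orderOf_dvd_iff_pow_eq_one.1 ht.dvd
    by_contra hne
    have hw : (D.ρ t : Matrix (Fin n) (Fin n) (ZMod p)) *ᵥ v + v ≠ 0 := fun h =>
      hne (eq_neg_of_add_eq_zero_left h)
    have h1 := hfree t _ hw (by
      rw [mulVec_add, mulVec_mulVec, ← Units.val_mul, ← map_mul, h2, map_one, Units.val_one,
        one_mulVec, add_comm])
    rw [h1, orderOf_one] at ht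
    omega
  exact D.inj (Units.ext (Matrix.ext_of_mulVec_single fun i => by rw [key ht, key ht']))

theorem mem_kern_of_orderOf {g : G} {s : ℕ} (hg : D.f g = 1) (hs : orderOf g = s) (hsp : ¬ p ∣ s) :
    g ∈ D.kern := by
  refine ⟨hg, ?_⟩
  have h1 : D.b (g ^ s) = 0 := by rw [← hs, pow_orderOf_eq_one, D.b_one]
  rw [D.b_pow_of_ker hg] at h1
  funext i
  have h2 := congrFun h1 i
  rw [Pi.smul_apply, nsmul_eq_mul, Pi.zero_apply, mul_eq_zero, ZMod.natCast_eq_zero_iff] at h2
  exact h2.resolve_left hsp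

theorem two_extra (hfree : D.IsFreeNZ) {x : G} (hx : x ∈ D.kern) (hx1 : x ≠ 1)
    (h : Nat.card (PReg G p) < Nat.card (ConjClasses H) + 2) :
    (∀ y ∈ D.kern, y ≠ 1 → IsConj x y) ∧
      ∀ g g' : G, D.f g ≠ 1 → D.f g' = D.f g → IsConj g g' := by
  classical
  haveI : Finite (ConjClasses G) := inferInstanceAs (Finite (Quotient _))
  have h1 : ¬ p ∣ orderOf (1 : G) := by rw [orderOf_one]; exact (Fact.out : p.Prime).not_dvd_one
  let one' : PReg G p := ⟨ConjClasses.mk 1, 1, rfl, h1⟩
  let cx : PReg G p := ⟨ConjClasses.mk x, x, rfl, D.coprime_ker x hx.1 hx.2⟩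
  have hone : ∀ {z : G} {hz}, z ≠ 1 → (⟨ConjClasses.mk z, hz⟩ : PReg G p) ≠ one' := fun hz he =>
    hz (isConj_one_right.1 (ConjClasses.mk_eq_mk_iff_isConj.1 (congrArg Subtype.val he)).symm)
  have himg : D.classMap cx = ConjClasses.mk 1 := congrArg ConjClasses.mk hx.1
  constructor
  · intro y hy hy1
    by_contra hxy
    let cy : PReg G p := ⟨ConjClasses.mk y, y, rfl, D.coprime_ker y hy.1 hy.2⟩
    have hne : cx ≠ cy := fun he => hxy (ConjClasses.mk_eq_mk_iff_isConj.1 (congrArg Subtype.val he))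
    refine absurd (card_add_two_le D.classMap hne fun c => ?_) (not_le.2 h)
    by_cases hc : c = ConjClasses.mk 1
    · exact ⟨one', (hone hx1).symm, (hone hy1).symm, by rw [hc]; exact congrArg ConjClasses.mk (map_one D.f)⟩
    · obtain ⟨a, ha⟩ := D.classMap_surjective c
      refine ⟨a, fun he => hc ?_, fun he => hc ?_, ha⟩
      · rw [← ha, he, himg]
      · rw [← ha, he]; exact congrArg ConjClasses.mk hy.1
  · intro g g' hg hgg
    by_contra hgg'
    let cg : PReg G p := ⟨ConjClasses.mk g, g, rfl, D.not_dvd_orderOf_of_free hfree hg⟩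
    let cg' : PReg G p := ⟨ConjClasses.mk g', g', rfl, D.not_dvd_orderOf_of_free hfree (hgg ▸ hg)⟩
    have hne1 : ConjClasses.mk (D.f g) ≠ ConjClasses.mk 1 := fun he =>
      hg (isConj_one_right.1 (ConjClasses.mk_eq_mk_iff_isConj.1 he).symm)
    have himg' : D.classMap cg' = ConjClasses.mk (D.f g) := congrArg ConjClasses.mk hgg
    have hne : cg' ≠ cx := fun he => hne1 (by rw [← himg', he, himg])
    refine absurd (card_add_two_le D.classMap hne fun c => ?_) (not_le.2 h)
    by_cases hc : c = ConjClasses.mk 1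
    · refine ⟨one', fun he => hne1 ?_, (hone hx1).symm, ?_⟩
      · rw [← himg', ← he]; exact congrArg ConjClasses.mk (map_one D.f)
      · rw [hc]; exact congrArg ConjClasses.mk (map_one D.f)
    by_cases hc' : c = ConjClasses.mk (D.f g)
    · refine ⟨cg, fun he => hgg' (ConjClasses.mk_eq_mk_iff_isConj.1 (congrArg Subtype.val he)),
        fun he => hne1 ?_, hc'.symm⟩
      rw [← himg, ← he]; rfl
    · obtain ⟨a, ha⟩ := D.classMap_surjective c
      refine ⟨a, fun he => hc' ?_, fun he => hc ?_, ha⟩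
      · rw [← ha, he, himg']
      · rw [← ha, he, himg]

/-- **The exceptional linear group with a nontrivial `p'`-kernel.** -/
theorem exception_classes [Fact (Nat.Prime 11)] (D : AffData G H 11 2) (hcard : Nat.card H = 120)
    (hk : Nat.card (ConjClasses H) = 9) (hsc : Nat.card (scalars D.ρ) = 2) (hK : D.kern ≠ ⊥) :
    11 ≤ Nat.card (PReg G 11) := by
  classical
  by_contra hlt
  have hfree : D.IsFreeNZ := fun h v hv hfix =>
    free_of_card D.ρ D.trans (by rw [hcard]; norm_num) hv hfix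
  haveI := D.kern_normal
  obtain ⟨⟨x, hx⟩, hxne⟩ := Subgroup.ne_bot_iff_exists_ne_one.1 hK
  have hx1 : x ≠ 1 := fun h => hxne (Subtype.ext h)
  obtain ⟨hA, hB⟩ := D.two_extra hfree hx hx1 (by omega)
  have hC : ∀ g : G, D.f g ≠ 1 → Nat.card (Subgroup.centralizer ({g} : Set G)) =
      Nat.card (Subgroup.centralizer ({D.f g} : Set H)) := fun g hg =>
    card_centralizer_eq D.f_surjective g fun g' hg' => hB g g' hg hg'
  have key : ∀ {s j : ℕ} {h : H}, s.Prime → 1 ≤ j → orderOf h = s ^ j →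
      ¬ s ^ (j + 1) ∣ Nat.card (Subgroup.centralizer ({h} : Set H)) → ¬ s ∣ Nat.card D.kern := by
    intro s j h hs hj hh hn hsK
    obtain ⟨g, hg, hgd⟩ := pow_succ_dvd_centralizer D.f_surjective D.kern (fun z hz => hz.1) hs hsK hh
    have hne : D.f g ≠ 1 := fun h1 => by
      rw [← hg, h1, orderOf_one] at hh
      exact (Nat.one_lt_pow (by omega) hs.one_lt).ne hh
    rw [hC g hne, hg] at hgd
    exact hn hgd
  have hn120 : ∀ {d : ℕ}, ¬ d ∣ 120 → ∀ h : H, ¬ d ∣ Nat.card (Subgroup.centralizer ({h} : Set H)) :=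
    fun hd h hdc => hd (hdc.trans (hcard ▸ Subgroup.card_subgroup_dvd_card _))
  have hodd : ∀ s : ℕ, s = 3 ∨ s = 5 → ¬ s ∣ Nat.card D.kern := by
    intro s hs
    haveI : Fact s.Prime := ⟨by rcases hs with rfl | rfl <;> norm_num⟩
    obtain ⟨h, hh⟩ := exists_prime_orderOf_dvd_card' (G := H) s
      (by rw [hcard]; rcases hs with rfl | rfl <;> norm_num)
    exact key Fact.out le_rfl (by rw [hh, pow_one])
      (hn120 (by rcases hs with rfl | rfl <;> norm_num) h)
  have h3 := hodd 3 (Or.inl rfl)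
  have h5 := hodd 5 (Or.inr rfl)
  have h2 : ¬ 2 ∣ Nat.card D.kern := by
    by_cases h8 : ∃ h : H, orderOf h = 2 ^ 3
    · obtain ⟨h, hh⟩ := h8
      exact key Nat.prime_two (by norm_num) hh (hn120 (by norm_num) h)
    push Not at h8
    haveI : Fact (Nat.Prime 2) := ⟨Nat.prime_two⟩
    obtain ⟨t, ht⟩ := exists_prime_orderOf_dvd_card' (G := H) 2 (by rw [hcard]; norm_num)
    have hsmall : ∀ a : H, a ^ 2 = 1 → a ∈ ({1, t} : Set H) := fun a ha => by
      rcases (Nat.dvd_prime Nat.prime_two).1 (orderOf_dvd_of_pow_eq_one ha) with h | h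
      · exact Or.inl (orderOf_eq_one_iff.1 h)
      · exact Or.inr (D.eq_of_involutions hfree h ht)
    have h4 : ∀ (A : Subgroup H), Nat.card A = 2 ^ 3 → ∀ a ∈ A, a ^ 4 = 1 := by
      intro A hA a ha
      obtain ⟨i, hi, hio⟩ := (Nat.dvd_prime_pow Nat.prime_two).1 (hA ▸ A.orderOf_dvd_natCard ha)
      have hi' : i ≠ 3 := fun h => h8 a (h ▸ hio)
      refine orderOf_dvd_iff_pow_eq_one.1 (hio ▸ ?_)
      exact pow_dvd_pow 2 (show i ≤ 2 by omega)
    obtain ⟨A, hA⟩ := Sylow.exists_subgroup_card_pow_prime (G := H) 2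
      (show 2 ^ 3 ∣ Nat.card H by rw [hcard]; norm_num)
    obtain ⟨h, hhA, hh2⟩ : ∃ h ∈ A, h ^ 2 ≠ 1 := by
      by_contra hcon
      push Not at hcon
      have hsub : (A : Set H) ⊆ {1, t} := fun a ha => hsmall a (hcon a ha)
      have := (Set.ncard_le_ncard hsub).trans (Set.ncard_insert_le _ _)
      rw [Set.ncard_singleton, ← Nat.card_coe_set_eq] at this
      have h' : Nat.card A ≤ 2 := this
      omega
    have hh4 : orderOf h = 2 ^ 2 := by
      obtain ⟨i, hi, hio⟩ := (Nat.dvd_prime_pow Nat.prime_two).1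
        (orderOf_dvd_of_pow_eq_one (show h ^ (2 ^ 2) = 1 from h4 A hA h hhA))
      rw [hio]
      congr 1
      by_contra hne
      exact hh2 (orderOf_dvd_iff_pow_eq_one.1
        (hio ▸ pow_dvd_pow 2 (show i ≤ 1 by omega)))
    refine key Nat.prime_two (by norm_num) hh4 fun hd => ?_
    have hhs : h ∉ scalars D.ρ := fun hm => by
      have := Subgroup.orderOf_dvd_natCard _ hm
      rw [hh4, hsc] at this
      norm_num at this
    obtain ⟨B, hB'⟩ := Sylow.exists_subgroup_card_pow_prime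
      (G := Subgroup.centralizer ({h} : Set H)) 2 hd
    letI : CommGroup B :=
      { (inferInstance : Group B) with
        mul_comm := fun a c => Subtype.ext (Subtype.ext (commute_of_commute_nonscalar D.ρ D.inj hhs
          (Subgroup.mem_centralizer_singleton_iff.1 a.1.2)
          (Subgroup.mem_centralizer_singleton_iff.1 c.1.2)).eq) }
    have hB4 : ∀ a : B, a ^ 4 = 1 := fun a => Subtype.ext (Subtype.ext (by
      simpa using h4 (B.map (Subgroup.centralizer ({h} : Set H)).subtype)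
        (by rw [Subgroup.card_map_of_injective (Subgroup.subtype_injective _), hB'])
        ((a : Subgroup.centralizer ({h} : Set H)) : H) ⟨a, a.2, rfl⟩))
    have hker : Nat.card (powMonoidHom 2 : B →* B).ker ≤ 2 := by
      refine (Nat.card_le_card_of_injective (α := (powMonoidHom 2 : B →* B).ker)
        (β := ({1, t} : Set H))
        (fun a => ⟨(((a : B) : Subgroup.centralizer ({h} : Set H)) : H), hsmall _ ?_⟩) ?_).trans ?_
      · exact congrArg (fun b : B => ((b : Subgroup.centralizer ({h} : Set H)) : H))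
          (MonoidHom.mem_ker.1 a.2)
      · intro a c hac
        have h' := congrArg Subtype.val hac
        exact Subtype.ext (Subtype.ext (Subtype.ext h'))
      · rw [Nat.card_coe_set_eq]
        exact (Set.ncard_insert_le _ _).trans (by rw [Set.ncard_singleton])
    have := card_le_four hB4 hker
    omega
  have hcop : (Nat.card D.kern).Coprime 120 := by
    rw [show (120 : ℕ) = 2 ^ 3 * 3 * 5 by norm_num]
    exact Nat.Coprime.mul_right (Nat.Coprime.mul_right
      ((Nat.prime_two.coprime_iff_not_dvd.2 h2).symm.pow_right 3)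
      (Nat.prime_three.coprime_iff_not_dvd.2 h3).symm)
      ((show Nat.Prime 5 by norm_num).coprime_iff_not_dvd.2 h5).symm
  have hcx : ∀ g : G, D.f g ≠ 1 → ¬ Commute g x := fun g hg hc => hx1 (by
    have hxC : x ∈ Subgroup.centralizer ({g} : Set G) :=
      Subgroup.mem_centralizer_singleton_iff.2 hc.eq.symm
    have h120 := Subgroup.orderOf_dvd_natCard _ hxC
    rw [hC g hg] at h120
    exact orderOf_eq_one_iff.1 (Nat.eq_one_of_dvd_coprimes hcop (Subgroup.orderOf_dvd_natCard _ hx)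
      (h120.trans (hcard ▸ Subgroup.card_subgroup_dvd_card _))))
  have hcC : (Nat.card (Subgroup.centralizer ({x} : Set G))).Coprime 120 := by
    refine Nat.coprime_of_dvd fun s hs hsC hs120 => ?_
    haveI : Fact s.Prime := ⟨hs⟩
    obtain ⟨⟨g, hgC⟩, hg⟩ := exists_prime_orderOf_dvd_card' (G := Subgroup.centralizer ({x} : Set G)) s hsC
    rw [Subgroup.orderOf_mk] at hg
    by_cases hg1 : D.f g = 1
    · have hgK := D.mem_kern_of_orderOf hg1 hg fun h11 => by
        have := (h11.trans hs120)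
        norm_num at this
      exact hs.ne_one (Nat.eq_one_of_dvd_coprimes hcop (hg ▸ Subgroup.orderOf_dvd_natCard _ hgK) hs120)
    · exact hcx g hg1 (Subgroup.mem_centralizer_singleton_iff.1 hgC)
  have hsz := card_conj_eq_mul x (fun y => y ∈ D.kern ∧ y ≠ 1) fun y hy => hA y hy.1 hy.2
  rw [Nat.card_congr (Equiv.subtypeUnivEquiv fun z =>
      ⟨‹D.kern.Normal›.conj_mem x hx z, fun he => hx1 (conj_eq_one_iff.1 he)⟩)] at hsz
  have hsub : Nat.card {y : G // y ∈ D.kern ∧ y ≠ 1} = Nat.card D.kern - 1 := by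
    have h : Set.ncard ((D.kern : Set G) \ {1}) = Set.ncard (D.kern : Set G) - 1 :=
      Set.ncard_sdiff_singleton_of_mem (one_mem _)
    rw [← Nat.card_coe_set_eq, ← Nat.card_coe_set_eq] at h
    exact h
  rw [hsub, D.card_eq, hcard] at hsz
  have hKlt : 2 ≤ Nat.card D.kern := by
    haveI : Nontrivial D.kern := ⟨⟨⟨x, hx⟩, 1, hxne⟩⟩
    exact Finite.one_lt_card
  have hord : ∀ q r : ℕ, q.Prime → r.Prime → q ∣ Nat.card D.kern → r ∣ Nat.card D.kern → q = r := by
    intro q r hq hr hqd hrd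
    haveI : Fact q.Prime := ⟨hq⟩
    haveI : Fact r.Prime := ⟨hr⟩
    obtain ⟨a, ha⟩ := exists_prime_orderOf_dvd_card' (G := D.kern) q hqd
    obtain ⟨c, hc⟩ := exists_prime_orderOf_dvd_card' (G := D.kern) r hrd
    rw [← Subgroup.orderOf_coe] at ha hc
    have ha1 : (a : G) ≠ 1 := fun h => hq.ne_one (by rw [← ha, h, orderOf_one])
    have hc1 : (c : G) ≠ 1 := fun h => hr.ne_one (by rw [← hc, h, orderOf_one])
    obtain ⟨z, hz⟩ := isConj_iff.1 ((hA a a.2 ha1).symm.trans (hA c c.2 hc1))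
    have := MulEquiv.orderOf_eq (MulAut.conj z) (a : G)
    rw [MulAut.conj_apply, hz, ha, hc] at this
    exact this.symm
  rcases arith_kern hKlt D.not_dvd_card_kern hsz hcC with h1321 | h14521
  · have hprime : (Nat.card D.kern).Prime := by rw [h1321]; norm_num
    have hgen : ∀ y ∈ D.kern, ∃ i : ℤ, x ^ i = y := fun y hy => by
      have hz : Subgroup.zpowers x = D.kern := by
        refine Subgroup.eq_of_le_of_card_ge (Subgroup.zpowers_le.2 hx) ?_
        rw [Nat.card_zpowers]
        rcases (Nat.dvd_prime hprime).1 (Subgroup.orderOf_dvd_natCard _ hx) with h | h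
        · exact absurd (orderOf_eq_one_iff.1 h) hx1
        · exact h.ge
      exact Subgroup.mem_zpowers_iff.1 (hz ▸ hy)
    have hnab : ¬ ∀ a c : H, a * c = c * a := by
      intro hcomm
      have : Nat.card (ConjClasses H) = Nat.card H :=
        (Nat.card_eq_of_bijective ConjClasses.mk ⟨fun a c hac => by
          obtain ⟨z, hz⟩ := isConj_iff.1 (ConjClasses.mk_eq_mk_iff_isConj.1 hac)
          rw [← hz, hcomm z a, mul_inv_cancel_right], Quotient.mk_surjective⟩).symm
      omega
    push Not at hnab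
    obtain ⟨h, h', hne⟩ := hnab
    obtain ⟨a, rfl⟩ := D.f_surjective h
    obtain ⟨c, rfl⟩ := D.f_surjective h'
    obtain ⟨i, hi⟩ := hgen _ (‹D.kern.Normal›.conj_mem x hx a)
    obtain ⟨j, hj⟩ := hgen _ (‹D.kern.Normal›.conj_mem x hx c)
    have he : a * (c * x * c⁻¹) * a⁻¹ = c * (a * x * a⁻¹) * c⁻¹ := by
      rw [← hj, ← hi, ← conj_zpow, ← conj_zpow, ← hi, ← hj, ← _root_.zpow_mul, ← _root_.zpow_mul, mul_comm]
    refine hcx ((c * a)⁻¹ * (a * c)) ?_ ?_
    · rw [map_mul, map_inv, map_mul, map_mul, Ne, inv_mul_eq_one]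
      exact Ne.symm hne
    · calc (c * a)⁻¹ * (a * c) * x = (c * a)⁻¹ * (a * (c * x * c⁻¹) * a⁻¹) * (a * c) := by group
        _ = x * ((c * a)⁻¹ * (a * c)) := by rw [he]; group
  · have := hord 13 1117 (by norm_num) (by norm_num) (by rw [h14521]; norm_num) (by rw [h14521]; norm_num)
    omega

end AffData

end CfsgLib.CoprimeTrans
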