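import Cfsg.Agent.CoprimeTransitive.Partition

/-!
# Coprime subgroups of `GL(2, p)` transitive on nonzero vectors: class number
-/

set_option autoImplicit false
set_option linter.style.haveILetI false
set_option linter.unusedSectionVars false

namespace CfsgLib.CoprimeTrans

open Matrix

variable {H : Type*} [Group H] [Finite H] {p n : ℕ} [Fact p.Prime]

/-- Transitivity on nonzero vectors. -/
def IsTransitiveNZ (ρ : H →* GL (Fin n) (ZMod p)) : Prop :=
  ∀ v w : Fin n → ZMod p, v ≠ 0 → w ≠ 0 →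
    ∃ h, (ρ h : Matrix (Fin n) (Fin n) (ZMod p)) *ᵥ v = w

theorem pow_sub_one_dvd_card (ρ : H →* GL (Fin n) (ZMod p)) (ht : IsTransitiveNZ ρ) (hn : 1 ≤ n) :
    p ^ n - 1 ∣ Nat.card H := by
  classical
  letI : MulAction H (Fin n → ZMod p) :=
    { smul := fun h v => (ρ h : Matrix (Fin n) (Fin n) (ZMod p)) *ᵥ v
      one_smul := fun v => by
        show (ρ 1 : Matrix (Fin n) (Fin n) (ZMod p)) *ᵥ v = v
        rw [map_one, Units.val_one, Matrix.one_mulVec]
      mul_smul := fun g h v => by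
        show (ρ (g * h) : Matrix (Fin n) (Fin n) (ZMod p)) *ᵥ v =
          (ρ g : Matrix (Fin n) (Fin n) (ZMod p)) *ᵥ ((ρ h : Matrix (Fin n) (Fin n) (ZMod p)) *ᵥ v)
        rw [map_mul, Units.val_mul, Matrix.mulVec_mulVec] }
  set e : Fin n → ZMod p := Pi.single ⟨0, hn⟩ 1 with he
  have he0 : e ≠ 0 := fun h => one_ne_zero (α := ZMod p) (by simpa [he] using congrFun h ⟨0, hn⟩)
  have horb : MulAction.orbit H e = {(0 : Fin n → ZMod p)}ᶜ := by
    ext v
    rw [Set.mem_compl_iff, Set.mem_singleton_iff, MulAction.mem_orbit_iff]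
    refine ⟨?_, fun hv => ht e v he0 hv⟩
    rintro ⟨h, rfl⟩ h0
    apply he0
    have h1 : h⁻¹ • h • e = h⁻¹ • (0 : Fin n → ZMod p) := congrArg (h⁻¹ • ·) h0
    rw [inv_smul_smul] at h1
    rw [h1]
    exact Matrix.mulVec_zero _
  have := Subgroup.index_dvd_card (MulAction.stabilizer H e)
  rwa [MulAction.index_stabilizer, horb, Set.ncard_compl, Set.ncard_singleton, Nat.card_fun,
    Nat.card_zmod, Nat.card_eq_fintype_card, Fintype.card_fin] at this

/-- The subgroup of elements acting as scalars. -/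
def scalars (ρ : H →* GL (Fin n) (ZMod p)) : Subgroup H :=
  (Units.map ((Matrix.scalar (Fin n) : ZMod p →+* Matrix (Fin n) (Fin n) (ZMod p))).toMonoidHom).range.comap ρ

theorem mem_scalars {ρ : H →* GL (Fin n) (ZMod p)} (hn : 1 ≤ n) {h : H} :
    h ∈ scalars ρ ↔ ∃ c : ZMod p, (ρ h : Matrix (Fin n) (Fin n) (ZMod p)) = Matrix.scalar (Fin n) c := by
  constructor
  · rintro ⟨u, hu⟩
    exact ⟨u, (congrArg Units.val hu).symm⟩
  · rintro ⟨c, hc⟩
    have hc0 : c ≠ 0 := by
      intro h0
      rw [h0, map_zero] at hc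
      haveI : Nonempty (Fin n) := ⟨⟨0, hn⟩⟩
      exact (ρ h).ne_zero hc
    exact ⟨Units.mk0 c hc0, Units.ext hc.symm⟩

theorem scalars_le_center (ρ : H →* GL (Fin n) (ZMod p)) (hinj : Function.Injective ρ) :
    scalars ρ ≤ Subgroup.center H := by
  rintro h ⟨u, hu⟩
  rw [Subgroup.mem_center_iff]
  refine fun g => hinj ?_
  rw [map_mul, map_mul, ← hu]
  exact Units.ext ((Matrix.scalar_commute (u : ZMod p) (fun r => Commute.all _ r) _).symm.eq)

theorem card_scalars_dvd (ρ : H →* GL (Fin n) (ZMod p)) (hinj : Function.Injective ρ) :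
    Nat.card (scalars ρ) ∣ p - 1 := by
  rw [← Subgroup.card_map_of_injective hinj]
  refine (Subgroup.card_dvd_of_le (Subgroup.map_comap_le _ _)).trans ?_
  refine (Subgroup.card_range_dvd _).trans ?_
  rw [Nat.card_eq_fintype_card, ZMod.card_units]

/-- A matrix commuting with a nonscalar `2 × 2` matrix is a polynomial in it. -/
theorem exists_eq_smul_add_smul {F : Type*} [Field F] {M N : Matrix (Fin 2) (Fin 2) F}
    (hM : ∀ c, M ≠ Matrix.scalar (Fin 2) c) (h : N * M = M * N) :
    ∃ a b : F, N = a • (1 : Matrix (Fin 2) (Fin 2) F) + b • M := by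
  have h00 := congrFun (congrFun h 0) 0
  have h01 := congrFun (congrFun h 0) 1
  have h10 := congrFun (congrFun h 1) 0
  simp [Matrix.mul_apply, Fin.sum_univ_two] at h00 h01 h10
  by_cases hb : M 0 1 = 0
  · by_cases hc : M 1 0 = 0
    · have hd : M 0 0 - M 1 1 ≠ 0 := by
        intro hd
        apply hM (M 0 0)
        ext i j
        fin_cases i <;> fin_cases j <;> simp [hb, hc]
        exact (sub_eq_zero.1 hd).symm
      refine ⟨N 0 0 - (N 0 0 - N 1 1) / (M 0 0 - M 1 1) * M 0 0,
        (N 0 0 - N 1 1) / (M 0 0 - M 1 1), ?_⟩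
      have e01 : N 0 1 = 0 := by
        have : N 0 1 * (M 0 0 - M 1 1) = 0 := by linear_combination -h01 + (N 0 0 - N 1 1) * hb
        exact (mul_eq_zero.1 this).resolve_right hd
      have e10 : N 1 0 = 0 := by
        have : N 1 0 * (M 0 0 - M 1 1) = 0 := by linear_combination h10 + (N 0 0 - N 1 1) * hc
        exact (mul_eq_zero.1 this).resolve_right hd
      ext i j
      fin_cases i <;> fin_cases j <;> simp [hb, hc, e01, e10]
      field_simp
      ring
    · refine ⟨N 0 0 - N 1 0 / M 1 0 * M 0 0, N 1 0 / M 1 0, ?_⟩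
      have e01 : N 0 1 = 0 := by
        have : N 0 1 * M 1 0 = 0 := by linear_combination h00 + N 1 0 * hb
        exact (mul_eq_zero.1 this).resolve_right hc
      ext i j
      fin_cases i <;> fin_cases j <;> simp [hb, e01, hc]
      field_simp
      linear_combination h10
  · refine ⟨N 0 0 - N 0 1 / M 0 1 * M 0 0, N 0 1 / M 0 1, ?_⟩
    ext i j
    fin_cases i <;> fin_cases j <;> simp [hb]
    · field_simp
      linear_combination -h00
    · field_simp
      linear_combination -h01

theorem eq_or_eq_of_conj {F : Type*} [Field F] (h2 : (2 : F) ≠ 0) {M N : Matrix (Fin 2) (Fin 2) F}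
    (hM : ∀ c, M ≠ Matrix.scalar (Fin 2) c) (hdisc : M.trace ^ 2 - 4 * M.det ≠ 0)
    (h : N * M = M * N) (htr : N.trace = M.trace) (hdet : N.det = M.det) :
    N = M ∨ N = Matrix.scalar (Fin 2) M.trace - M := by
  obtain ⟨a, b, rfl⟩ := exists_eq_smul_add_smul hM h
  simp [Matrix.trace_fin_two, Matrix.det_fin_two] at htr hdet hdisc
  have hb : (1 - b) * (1 + b) = 0 := by
    have : (1 - b) * (1 + b) * ((M 0 0 + M 1 1) ^ 2 - 4 * (M 0 0 * M 1 1 - M 0 1 * M 1 0)) = 0 := by
      linear_combination (-(2 * a + b * (M 0 0 + M 1 1) + (M 0 0 + M 1 1))) * htr + 4 * hdet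
    exact (mul_eq_zero.1 this).resolve_right hdisc
  rcases mul_eq_zero.1 hb with hb | hb
  · left
    obtain rfl : b = 1 := (sub_eq_zero.1 hb).symm
    have ha : a = 0 := (mul_eq_zero.1 (show (2 : F) * a = 0 by linear_combination htr)).resolve_left h2
    simp [ha]
  · right
    obtain rfl : b = -1 := by linear_combination hb
    have ha : a = M 0 0 + M 1 1 :=
      mul_left_cancel₀ h2 (by linear_combination htr)
    subst ha
    ext i j
    fin_cases i <;> fin_cases j <;> simp [Matrix.trace_fin_two] <;> ring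

theorem classes_arith {p d N k : ℕ} (hp : p.Prime) (hp5 : 5 ≤ p) (hd : 0 < d) (hdvd : d ∣ p - 1)
    (hd2 : 2 ∣ d) (hdiv : p ^ 2 - 1 ∣ d * N) (hN : 0 < N) (hco : ¬ p ∣ d * N)
    (hT : TypeConcl N ((k : ℚ) / d)) : p ≤ k ∨ (p = 11 ∧ d * N = 120 ∧ k = 9 ∧ d = 2) := by
  have hle : p ^ 2 - 1 ≤ d * N := Nat.le_of_dvd (Nat.mul_pos hd hN) hdiv
  have hpp : 1 ≤ p ^ 2 := Nat.one_le_pow _ _ hp.pos
  have hd' : (0 : ℚ) < d := by exact_mod_cast hd
  rcases hT with h | ⟨rfl, h⟩ | ⟨rfl, h⟩ | ⟨rfl, h⟩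
  · left
    have h' : (N : ℚ) * d ≤ 4 * k := by
      have := mul_le_mul_of_nonneg_right h hd'.le
      rwa [show 4 * ((k : ℚ) / d) * d = 4 * k by field_simp] at this
    have h'' : N * d ≤ 4 * k := by exact_mod_cast h'
    have h5 : 5 * p ≤ p ^ 2 := by nlinarith
    rw [mul_comm N d] at h''
    omega
  · left
    rw [div_eq_iff hd'.ne'] at h
    have h2 : 2 * k = 7 * d := by
      have : (2 : ℚ) * k = 7 * d := by linarith
      exact_mod_cast this
    have h5 : 5 * p ≤ p ^ 2 := by nlinarith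
    omega
  · left
    rw [div_eq_iff hd'.ne'] at h
    have h2 : k = 4 * d := by exact_mod_cast h
    rcases Nat.lt_or_ge p 7 with h7 | h7
    · have := Nat.le_of_dvd hd hd2
      have : p ≤ 7 := h7.le
      omega
    · have h5 : 7 * p ≤ p ^ 2 := by nlinarith
      omega
  · rw [div_eq_iff hd'.ne'] at h
    have h2 : 2 * k = 9 * d := by
      have : (2 : ℚ) * k = 9 * d := by linarith
      exact_mod_cast this
    rcases Nat.lt_or_ge p 14 with h14 | h14
    · have hdp := Nat.le_of_dvd (by omega) hdvd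
      interval_cases p
      all_goals first
        | (exfalso; revert hp; decide)
        | skip
      · exact absurd (Dvd.dvd.mul_left (by norm_num : 5 ∣ 60) d) hco
      all_goals
        interval_cases d <;> omega
    · left
      have h5 : 14 * p ≤ p ^ 2 := by nlinarith
      omega

/-- **Class number of coprime transitive subgroups of `GL(2, p)`.** -/
theorem classes_gl_two (ρ : H →* GL (Fin 2) (ZMod p)) (hinj : Function.Injective ρ)
    (hco : ¬ p ∣ Nat.card H) (ht : IsTransitiveNZ ρ) (hp5 : 5 ≤ p) :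
    p ≤ Nat.card (ConjClasses H) ∨
      (p = 11 ∧ Nat.card H = 120 ∧ Nat.card (ConjClasses H) = 9 ∧ Nat.card (scalars ρ) = 2) := by
  classical
  have hp : p.Prime := Fact.out
  have h2 : (2 : ZMod p) ≠ 0 := by
    intro h
    have : ((2 : ℕ) : ZMod p) = 0 := by exact_mod_cast h
    rw [ZMod.natCast_eq_zero_iff] at this
    exact absurd (Nat.le_of_dvd two_pos this) (by omega)
  set Z := scalars ρ with hZdef
  have hns : ∀ g ∉ Z, ∀ c, (ρ g : Matrix (Fin 2) (Fin 2) (ZMod p)) ≠ Matrix.scalar (Fin 2) c :=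
    fun g hg c hc => hg ((mem_scalars one_le_two).2 ⟨c, hc⟩)
  have hcomm : ∀ {a g : H}, Commute a g →
      (ρ a : Matrix (Fin 2) (Fin 2) (ZMod p)) * ρ g = ρ g * ρ a := fun {a g} h => by
    rw [← Units.val_mul, ← Units.val_mul, ← map_mul, ← map_mul, h.eq]
  have hab : ∀ g ∉ Z, ∀ a b : H, Commute a g → Commute b g → Commute a b := by
    intro g hg a b ha hb
    obtain ⟨x, y, hA⟩ := exists_eq_smul_add_smul (hns g hg) (hcomm ha)
    obtain ⟨u, w, hB⟩ := exists_eq_smul_add_smul (hns g hg) (hcomm hb)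
    refine hinj (Units.ext ?_)
    rw [map_mul, map_mul, Units.val_mul, Units.val_mul, hA, hB]
    simp only [add_mul, mul_add, Algebra.smul_mul_assoc, Algebra.mul_smul_comm, one_mul, mul_one]
    module
  have htwo : ∀ g ∉ Z, ∃ g' : H, ∀ h : H, Commute (h * g * h⁻¹) g →
      h * g * h⁻¹ = g ∨ h * g * h⁻¹ = g' := by
    intro g hg
    refine ⟨Function.invFun (fun x : H => (ρ x : Matrix (Fin 2) (Fin 2) (ZMod p)))
      (Matrix.scalar (Fin 2) (ρ g : Matrix (Fin 2) (Fin 2) (ZMod p)).trace - ρ g), fun h hh => ?_⟩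
    have hdisc : (ρ g : Matrix (Fin 2) (Fin 2) (ZMod p)).trace ^ 2 -
        4 * (ρ g : Matrix (Fin 2) (Fin 2) (ZMod p)).det ≠ 0 := by
      intro h0
      set M := (ρ g : Matrix (Fin 2) (Fin 2) (ZMod p)) with hM
      set c := M.trace / 2 with hc
      have hnil : (M - Matrix.scalar (Fin 2) c) ^ 2 = 0 := by
        rw [Matrix.trace_fin_two, Matrix.det_fin_two] at h0
        rw [hc, Matrix.trace_fin_two, sq]
        ext i j
        fin_cases i <;> fin_cases j <;> simp [Matrix.mul_apply, Fin.sum_univ_two] <;> field_simp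
        · linear_combination h0
        · ring
        · ring
        · linear_combination h0
      have hpow : M ^ p = Matrix.scalar (Fin 2) (c ^ p) := by
        have h1 := sub_pow_char_of_commute (p := p)
          ((Matrix.scalar_commute c (fun r => Commute.all _ r) M).symm)
        rw [pow_eq_zero_of_le hp.two_le hnil, ← map_pow] at h1
        exact sub_eq_zero.1 h1.symm
      have hgp : g ^ p ∈ Z := (mem_scalars one_le_two).2 ⟨c ^ p, by rw [map_pow, Units.val_pow_eq_pow_val, ← hM, hpow]⟩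
      have hcop : (orderOf g).Coprime p :=
        ((hp.coprime_iff_not_dvd).2 fun hd => hco (hd.trans (orderOf_dvd_natCard g))).symm
      obtain ⟨m, hm⟩ := exists_pow_eq_self_of_coprime hcop.symm
      exact hg (hm ▸ pow_mem hgp m)
    have hconj : (ρ (h * g * h⁻¹) : Matrix (Fin 2) (Fin 2) (ZMod p)) =
        (ρ h : Matrix (Fin 2) (Fin 2) (ZMod p)) * ρ g * ((ρ h)⁻¹ : GL (Fin 2) (ZMod p)) := by
      simp [map_mul, map_inv]
    rcases eq_or_eq_of_conj h2 (hns g hg) hdisc (hcomm hh)
      (by rw [hconj]; exact Matrix.trace_units_conj _ _) (by rw [hconj]; exact Matrix.det_units_conj _ _) with h1 | h1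
    · exact Or.inl (hinj (Units.ext h1))
    · refine Or.inr ?_
      rw [← h1]
      exact (Function.leftInverse_invFun (f := fun x : H => (ρ x : Matrix (Fin 2) (Fin 2) (ZMod p)))
        (fun x y hxy => hinj (Units.ext hxy)) _).symm
  have hT := classes_types Z (scalars_le_center ρ hinj) hab htwo
  have hdiv := pow_sub_one_dvd_card ρ ht one_le_two
  have hd2 : 2 ∣ Nat.card Z := by
    set D := (Matrix.GeneralLinearGroup.det : GL (Fin 2) (ZMod p) →* (ZMod p)ˣ).comp ρ with hD
    have hi : D.ker.index ∣ p - 1 := by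
      rw [Subgroup.index_ker, ← ZMod.card_units p, ← Nat.card_eq_fintype_card]
      exact Subgroup.card_subgroup_dvd_card _
    obtain ⟨t, ht'⟩ := hi
    have h1 : (p + 1) * (p - 1) ∣ Nat.card D.ker * (p - 1) := by
      rw [← Nat.sq_sub_sq p 1, one_pow, ht', ← mul_assoc, Subgroup.card_mul_index]
      exact hdiv.mul_right t
    have h3 := Nat.dvd_of_mul_dvd_mul_right (by omega) h1
    have hpodd : 2 ∣ p + 1 := by
      have := hp.odd_of_ne_two (by omega)
      obtain ⟨m, rfl⟩ := this
      omega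
    obtain ⟨s, hs⟩ := exists_prime_orderOf_dvd_card' (G := D.ker) 2 (hpodd.trans h3)
    have hs' : orderOf (s : H) = 2 := by rw [Subgroup.orderOf_coe, hs]
    have hsZ : (s : H) ∈ Z := by
      set M := (ρ (s : H) : Matrix (Fin 2) (Fin 2) (ZMod p)) with hM
      have hM2 : M * M = 1 := by
        have hsq : (s : H) ^ 2 = 1 := (congrArg ((s : H) ^ ·) hs'.symm).trans (pow_orderOf_eq_one _)
        rw [hM, ← Units.val_mul, ← map_mul, ← pow_two, hsq, map_one, Units.val_one]
      have hdet : M.det = 1 := congrArg Units.val (MonoidHom.mem_ker.1 s.2 : D (s : H) = 1)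
      rw [Matrix.det_fin_two] at hdet
      have e00 := congrFun (congrFun hM2 0) 0
      have e01 := congrFun (congrFun hM2 0) 1
      have e10 := congrFun (congrFun hM2 1) 0
      have e11 := congrFun (congrFun hM2 1) 1
      simp [Matrix.mul_apply, Fin.sum_univ_two] at e00 e01 e10 e11
      have t00 : (M 0 0 + M 1 1) * M 0 0 = 2 := by linear_combination e00 + hdet
      have tne : M 0 0 + M 1 1 ≠ 0 := fun h0 => h2 (by rw [h0, zero_mul] at t00; exact t00.symm)
      have f01 : M 0 1 = 0 :=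
        (mul_eq_zero.1 (show (M 0 0 + M 1 1) * M 0 1 = 0 by linear_combination e01)).resolve_left tne
      have f10 : M 1 0 = 0 :=
        (mul_eq_zero.1 (show (M 0 0 + M 1 1) * M 1 0 = 0 by linear_combination e10)).resolve_left tne
      refine (mem_scalars one_le_two).2 ⟨M 0 0, ?_⟩
      have f11 : M 1 1 = M 0 0 := mul_left_cancel₀ tne (by linear_combination e11 - e00)
      ext i j
      fin_cases i <;> fin_cases j <;> simp [← hM, f01, f10, f11]
    rw [← hs']
    exact (Subgroup.orderOf_mk _ hsZ) ▸ orderOf_dvd_natCard (⟨s, hsZ⟩ : Z)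
  have hmul : Nat.card H = Nat.card Z * Z.index := (Subgroup.card_mul_index Z).symm
  rw [hmul] at hdiv hco ⊢
  exact classes_arith hp hp5 Nat.card_pos (card_scalars_dvd ρ hinj) hd2 hdiv
    (Nat.pos_of_ne_zero Subgroup.index_ne_zero_of_finite) hco hT

end CfsgLib.CoprimeTrans
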