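import Cfsg.Prelude.Def_Characters
import Cfsg.Agent.OddOrder.BG3.IdempotentLift
import Cfsg.Agent.CoprimeTransitive.Embed

/-!
# Faithful complex characters from coprime modular representations

A representation of a group of order prime to `p` over `ZMod p` lifts to all `ℤ/p^k` compatibly
(König), hence to `ℤ_p`, hence to a faithful complex representation of the same degree.
-/

set_option autoImplicit false
set_option linter.style.haveILetI false

namespace CfsgLib.CoprimeTrans

open CategoryTheory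

universe u

variable {H : Type u} [Group H] [Finite H] {p : ℕ} [Fact p.Prime] {n : Type} [Fintype n] [DecidableEq n]

/-- The lifts of a representation modulo `p ^ (k + 1)`. -/
abbrev LiftAt (ρ : H →* Matrix n n (ZMod p)) (k : ℕ) : Type u :=
  {σ : H →* Matrix n n (ZMod (p ^ (k + 1))) //
    ∀ g, (ZMod.castHom (dvd_pow_self p k.succ_ne_zero) (ZMod p)).mapMatrix (σ g) = ρ g}

instance (ρ : H →* Matrix n n (ZMod p)) (k : ℕ) : Finite (LiftAt ρ k) := by
  haveI : NeZero (p ^ (k + 1)) := ⟨pow_ne_zero _ (Fact.out : p.Prime).ne_zero⟩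
  exact Finite.of_injective (fun σ : LiftAt ρ k => (σ.1 : H → Matrix n n (ZMod (p ^ (k + 1)))))
    fun a b h => Subtype.ext (DFunLike.coe_injective h)

/-- Reduction of lifts. -/
def reduceLift (ρ : H →* Matrix n n (ZMod p)) {j k : ℕ} (h : j ≤ k) (σ : LiftAt ρ k) : LiftAt ρ j :=
  ⟨(ZMod.castHom (pow_dvd_pow p (Nat.succ_le_succ h)) (ZMod (p ^ (j + 1)))).mapMatrix.toMonoidHom.comp σ.1,
    fun g => by
      rw [← σ.2 g]
      ext a b
      simp only [MonoidHom.comp_apply, RingHom.toMonoidHom_eq_coe, MonoidHom.coe_coe,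
        RingHom.mapMatrix_apply, Matrix.map_apply]
      exact DFunLike.congr_fun (ZMod.castHom_comp (dvd_pow_self p j.succ_ne_zero)
        (pow_dvd_pow p (Nat.succ_le_succ h))) (σ.1 g a b)⟩

/-- A coprime representation over `ZMod p` lifts to one over `ℤ_p`. -/
theorem exists_padic_lift (hcop : (Nat.card H).Coprime p) (ρ : H →* Matrix n n (ZMod p)) :
    ∃ σ : H →* Matrix n n ℤ_[p], ∀ g, PadicInt.toZMod.mapMatrix (σ g) = ρ g := by
  classical
  let F : ℕᵒᵖ ⥤ Type u :=
    { obj := fun k => LiftAt ρ k.unop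
      map := fun {a b} f => TypeCat.ofHom (reduceLift ρ (leOfHom f.unop))
      map_id := fun a => by
        ext σ g i j
        show ZMod.castHom (pow_dvd_pow p le_rfl) (ZMod (p ^ (a.unop + 1))) (σ.1 g i j) = σ.1 g i j
        exact DFunLike.congr_fun (RingHom.ext_zmod _ (RingHom.id _)) (σ.1 g i j)
      map_comp := fun {a b c} f g => by
        ext σ x i j
        show ZMod.castHom (pow_dvd_pow p (Nat.succ_le_succ (leOfHom (f ≫ g).unop)))
            (ZMod (p ^ (c.unop + 1))) (σ.1 x i j) =
          ZMod.castHom (pow_dvd_pow p (Nat.succ_le_succ (leOfHom g.unop))) (ZMod (p ^ (c.unop + 1)))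
            (ZMod.castHom (pow_dvd_pow p (Nat.succ_le_succ (leOfHom f.unop)))
              (ZMod (p ^ (b.unop + 1))) (σ.1 x i j))
        exact (DFunLike.congr_fun (ZMod.castHom_comp
          (pow_dvd_pow p (Nat.succ_le_succ (leOfHom g.unop)))
          (pow_dvd_pow p (Nat.succ_le_succ (leOfHom f.unop)))) (σ.1 x i j)).symm }
  haveI : ∀ k : ℕᵒᵖ, Finite (F.obj k) := fun k =>
    inferInstanceAs (Finite (LiftAt ρ k.unop))
  haveI : ∀ k : ℕᵒᵖ, Nonempty (F.obj k) := fun k => by
    obtain ⟨σ, hσ⟩ := CfsgLib.OddOrder.exists_lift_rep (ℓ := p) (k := k.unop + 1) (Nat.succ_ne_zero _) hcop ρ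
    exact ⟨⟨σ, hσ⟩⟩
  obtain ⟨s, hs⟩ := nonempty_sections_of_finite_inverse_system F
  let f : ∀ k : ℕ, MvPolynomial (H × n × n) ℤ →+* ZMod (p ^ k) := fun k =>
    (ZMod.castHom (pow_dvd_pow p k.le_succ) (ZMod (p ^ k))).comp
      (MvPolynomial.eval₂Hom (Int.castRingHom (ZMod (p ^ (k + 1))))
        fun x => (s (Opposite.op k)).1 x.1 x.2.1 x.2.2)
  have hstep : ∀ {j k : ℕ} (h : j ≤ k) (g : H) (a b : n),
      ZMod.castHom (pow_dvd_pow p (Nat.succ_le_succ h)) (ZMod (p ^ (j + 1)))
        ((s (Opposite.op k)).1 g a b) = (s (Opposite.op j)).1 g a b := by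
    intro j k h g a b
    rw [← hs (Quiver.Hom.op (homOfLE h) : Opposite.op k ⟶ Opposite.op j)]
    rfl
  have hcompat : ∀ (k1 k2 : ℕ) (hk : k1 ≤ k2),
      (ZMod.castHom (pow_dvd_pow p hk) (ZMod (p ^ k1))).comp (f k2) = f k1 := by
    intro k1 k2 hk
    apply MvPolynomial.ringHom_ext
    · intro r
      simp [f]
    · rintro ⟨g, a, b⟩
      simp only [f, RingHom.comp_apply, MvPolynomial.eval₂Hom_X']
      rw [← hstep hk g a b]
      simp only [← RingHom.comp_apply, ZMod.castHom_comp]
  let L := PadicInt.lift hcompat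
  let M : H → Matrix n n ℤ_[p] := fun g => Matrix.of fun a b => L (MvPolynomial.X (g, a, b))
  have hM : ∀ k g, (PadicInt.toZModPow k).mapMatrix (M g) =
      (ZMod.castHom (pow_dvd_pow p k.le_succ) (ZMod (p ^ k))).mapMatrix ((s (Opposite.op k)).1 g) := by
    intro k g
    ext a b
    have h := DFunLike.congr_fun (PadicInt.lift_spec hcompat k) (MvPolynomial.X (g, a, b))
    simpa [M, L, f] using h
  have hinj : ∀ {A B : Matrix n n ℤ_[p]}, (∀ k, (PadicInt.toZModPow k).mapMatrix A =
      (PadicInt.toZModPow k).mapMatrix B) → A = B := by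
    intro A B h
    ext a b
    exact PadicInt.ext_of_toZModPow.1 fun k => congrFun (congrFun (h k) a) b
  refine ⟨{ toFun := M, map_one' := hinj fun k => by rw [hM, map_one, map_one, map_one],
            map_mul' := fun g h => hinj fun k => by rw [hM, map_mul, map_mul, map_mul, hM, hM] },
    fun g => ?_⟩
  ext a b
  have h1 := congrFun (congrFun (hM 1 g) a) b
  simp only [RingHom.mapMatrix_apply, Matrix.map_apply] at h1
  have h2 : ∀ x : ℤ_[p], PadicInt.toZMod x =
      ZMod.castHom (dvd_of_eq (pow_one p).symm) (ZMod p) (PadicInt.toZModPow 1 x) := by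
    intro x
    obtain ⟨m, y, hy⟩ : ∃ (m : ℕ) (y : ℤ_[p]), x = (m : ℤ_[p]) + (p : ℤ_[p]) * y := by
      have hx := PadicInt.sub_zmodRepr_mem (p := p) x
      rw [PadicInt.maximalIdeal_eq_span_p, Ideal.mem_span_singleton'] at hx
      obtain ⟨y, hy⟩ := hx
      exact ⟨x.zmodRepr, y, by rw [mul_comm, hy]; ring⟩
    rw [hy]
    simp [map_natCast]
  show PadicInt.toZMod (M g a b) = ρ g a b
  rw [h2, h1, ← (s (Opposite.op 1)).2 g, ← RingHom.comp_apply, ZMod.castHom_comp]
  rfl

/-- A faithful coprime representation over `ZMod p` gives a faithful complex one of the same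
degree. -/
theorem exists_complex_rep (hcop : (Nat.card H).Coprime p) (ρ : H →* Matrix n n (ZMod p))
    (hinj : Function.Injective ρ) : ∃ τ : H →* Matrix n n ℂ, Function.Injective τ := by
  classical
  haveI := Fintype.ofFinite H
  obtain ⟨σ, hσ⟩ := exists_padic_lift hcop ρ
  let S : Set ℚ_[p] := Set.range fun x : H × n × n => ((σ x.1 x.2.1 x.2.2 : ℤ_[p]) : ℚ_[p])
  have hK : Cardinal.mk (Subfield.closure S) ≤ Cardinal.aleph0 :=
    (Subfield.cardinalMk_closure_le_max S).trans
      (max_le (Set.finite_range _).countable.le_aleph0 le_rfl)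
  obtain ⟨ι⟩ := exists_embedding (Subfield.closure S) hK
  let R : Subring ℤ_[p] := Subring.closure (Set.range fun x : H × n × n => σ x.1 x.2.1 x.2.2)
  have hle : ∀ x ∈ R, ((x : ℤ_[p]) : ℚ_[p]) ∈ Subfield.closure S := by
    intro x hx
    induction hx using Subring.closure_induction with
    | mem y hy => obtain ⟨z, rfl⟩ := hy; exact Subfield.subset_closure ⟨z, rfl⟩
    | zero => simp [zero_mem]
    | one => simp [one_mem]
    | add a b _ _ ha hb => push_cast; exact add_mem ha hb
    | neg a _ ha => push_cast; exact neg_mem ha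
    | mul a b _ _ ha hb => push_cast; exact mul_mem ha hb
  let e : R →+* Subfield.closure S :=
    (PadicInt.Coe.ringHom.comp R.subtype).codRestrict _ fun x => hle x.1 x.2
  let σR : H →* Matrix n n R :=
    { toFun := fun g => Matrix.of fun a b => ⟨σ g a b, Subring.subset_closure ⟨(g, a, b), rfl⟩⟩
      map_one' := by
        apply Matrix.map_injective R.subtype_injective
        simp only [Matrix.map, Matrix.of_apply]
        ext a b
        simp [Matrix.one_apply, apply_ite R.subtype]
      map_mul' := fun g h => by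
        ext a b
        simp [Matrix.mul_apply] }
  refine ⟨(ι.comp e).mapMatrix.toMonoidHom.comp σR, fun g h hgh => hinj ?_⟩
  rw [← hσ g, ← hσ h]
  congr 1
  have hie : Function.Injective (ι.comp e) := ι.injective.comp fun a b hab =>
    Subtype.ext (PadicInt.ext (congrArg (fun t : Subfield.closure S => (t : ℚ_[p])) hab))
  have := Matrix.map_injective hie hgh
  ext a b
  exact congrArg Subtype.val (congrFun (congrFun this a) b)

/-- A faithful coprime representation over `ZMod p` gives a faithful complex character of the same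
degree. -/
theorem exists_character (hcop : (Nat.card H).Coprime p) (ρ : H →* Matrix n n (ZMod p))
    (hinj : Function.Injective ρ) :
    ∃ τ : Representation ℂ H (n → ℂ), Function.Injective τ := by
  obtain ⟨τ, hτ⟩ := exists_complex_rep hcop ρ hinj
  exact ⟨(Matrix.toLinAlgEquiv' : Matrix n n ℂ ≃ₐ[ℂ] _).toMonoidHom.comp τ,
    Matrix.toLinAlgEquiv'.injective.comp hτ⟩

end CfsgLib.CoprimeTrans
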