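import Cfsg.Agent.CoprimeTransitive.Types

/-!
# Groups partitioned by abelian centralizers with small automizers

If outside a central subgroup `Z` all centralizers are abelian and an element is conjugate to at
most one other element of its centralizer, the class number is governed by the partition equation.
-/

set_option autoImplicit false
set_option linter.style.haveILetI false

open scoped Pointwise

namespace CfsgLib.CoprimeTrans

variable {H : Type*} [Group H] [Finite H]

theorem sum_card_centralizer [Fintype H] :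
    ∑ g : H, Nat.card (Subgroup.centralizer ({g} : Set H)) = Nat.card (ConjClasses H) * Nat.card H := by
  rw [← card_comm_eq_card_conjClasses_mul_card,
    Nat.card_congr (Equiv.subtypeProdEquivSigmaSubtype fun a b : H => Commute a b), Nat.card_sigma]
  refine Finset.sum_congr rfl fun g _ => Nat.card_congr (Equiv.subtypeEquivRight fun x => ?_)
  rw [Subgroup.mem_centralizer_singleton_iff]
  exact ⟨fun h => h.symm, fun h => h.symm⟩

/-- The class number in terms of the partition by centralizers. -/
theorem classes_types (Z : Subgroup H) (hZ : Z ≤ Subgroup.center H)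
    (hab : ∀ g ∉ Z, ∀ a b : H, Commute a g → Commute b g → Commute a b)
    (htwo : ∀ g ∉ Z, ∃ g' : H, ∀ h : H, Commute (h * g * h⁻¹) g →
      h * g * h⁻¹ = g ∨ h * g * h⁻¹ = g') :
    TypeConcl Z.index ((Nat.card (ConjClasses H) : ℚ) / Nat.card Z) := by
  classical
  haveI := Fintype.ofFinite H
  haveI : Fintype (Subgroup H) := Fintype.ofFinite _
  letI : MulAction H (Subgroup H) := MulAction.compHom _ (MulAut.conj : H →* MulAut H)
  have hsmul : ∀ (h : H) (A : Subgroup H) (x : H), x ∈ h • A ↔ h⁻¹ * x * h ∈ A := by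
    intro h A x
    show x ∈ (MulAut.conj h) • A ↔ _
    rw [Subgroup.mem_pointwise_smul_iff_inv_smul_mem]
    simp [MulAut.smul_def, MulAut.conj_inv_apply]
  set d := Nat.card Z with hddef
  set C : H → Subgroup H := fun g => Subgroup.centralizer {g} with hCdef
  have hmemC : ∀ g x, x ∈ C g ↔ Commute x g := fun g x => by
    rw [hCdef, Subgroup.mem_centralizer_singleton_iff]; exact Iff.rfl
  have hgC : ∀ g, g ∈ C g := fun g => (hmemC g g).2 (Commute.refl g)
  have hZC : ∀ g, Z ≤ C g := fun g z hz => (hmemC g z).2 (Subgroup.mem_center_iff.1 (hZ hz) g).symm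
  have hCeq : ∀ g ∉ Z, ∀ x ∈ C g, x ∉ Z → C x = C g := by
    intro g hg x hx hxZ
    ext y
    rw [hmemC, hmemC]
    exact ⟨fun hy => hab x hxZ y g hy ((hmemC g x).1 hx).symm,
      fun hy => hab g hg y x hy ((hmemC g x).1 hx)⟩
  have hCconj : ∀ h g, C (h * g * h⁻¹) = h • C g := by
    intro h g
    ext x
    rw [hsmul, hmemC, hmemC]
    have e1 : x = h * (h⁻¹ * x * h) * h⁻¹ := by group
    conv_lhs => rw [e1]
    exact Commute.conj_iff h
  -- the orbit of the centralizer
  let Φ : H → Finset (Subgroup H) := fun g => (MulAction.orbit H (C g)).toFinset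
  have hΦmem : ∀ g A, A ∈ Φ g ↔ A ∈ MulAction.orbit H (C g) := fun g A => Set.mem_toFinset
  set S : Finset H := Finset.univ.filter fun g => g ∉ Z with hSdef
  have hcardAZ : ∀ g, (Finset.univ.filter fun y => y ∈ C g ∧ y ∉ Z).card + d = Nat.card (C g) := by
    intro g
    have h1 : Nat.card (C g) = (Finset.univ.filter fun y => y ∈ C g).card := by
      rw [Nat.card_eq_fintype_card]; exact Fintype.card_subtype _
    have h2 : d = (Finset.univ.filter fun y => y ∈ Z).card := by
      rw [hddef, Nat.card_eq_fintype_card]; exact Fintype.card_subtype _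
    rw [h1, h2, ← Finset.card_union_of_disjoint]
    · congr 1
      ext y
      simp only [Finset.mem_union, Finset.mem_filter, Finset.mem_univ, true_and]
      exact ⟨fun h => h.elim (·.1) (hZC g ·), fun h => (em (y ∈ Z)).elim Or.inr fun h' => Or.inl ⟨h, h'⟩⟩
    · rw [Finset.disjoint_left]
      intro y hy hy'
      rw [Finset.mem_filter] at hy hy'
      exact hy.2.2 hy'.2
  have hfib : ∀ g ∉ Z, ∀ A ∈ Φ g, ((S.filter fun y => Φ y = Φ g).filter fun y => C y = A).card + d =
      Nat.card (C g) := by
    intro g hg A hA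
    obtain ⟨h, rfl⟩ := (hΦmem g A).1 hA
    beta_reduce
    have hgZ : h * g * h⁻¹ ∉ Z := fun hh => hg (by
      have := (Subgroup.mem_center_iff.1 (hZ hh) h)
      have e : h * g * h⁻¹ = g := by
        have e2 : h⁻¹ * (h * (h * g * h⁻¹)) = h⁻¹ * (h * g * h⁻¹ * h) := by rw [this]
        simpa [mul_assoc] using e2
      rwa [e] at hh)
    rw [← hCconj]
    have : Nat.card (C g) = Nat.card (C (h * g * h⁻¹)) := by
      rw [hCconj]
      exact Nat.card_congr (Subgroup.equivSMul (MulAut.conj h) (C g)).toEquiv
    rw [this, ← hcardAZ (h * g * h⁻¹)]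
    congr 1
    congr 1
    ext y
    simp only [Finset.mem_filter, Finset.mem_univ, true_and, hSdef]
    constructor
    · rintro ⟨⟨hy, _⟩, hCy⟩
      exact ⟨hCy ▸ hgC y, hy⟩
    · rintro ⟨hy, hyZ⟩
      have hCy := hCeq _ hgZ y hy hyZ
      refine ⟨⟨hyZ, ?_⟩, hCy⟩
      show (MulAction.orbit H (C y)).toFinset = (MulAction.orbit H (C g)).toFinset
      rw [Set.toFinset_inj, hCy, hCconj]
      exact MulAction.orbit_eq_iff.2 (MulAction.mem_orbit _ _)
  -- orbits, representatives and parameters
  set T := S.image Φ with hTdef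
  have hrep : ∀ O ∈ T, ∃ g, g ∉ Z ∧ Φ g = O := fun O hO => by
    obtain ⟨g, hg, rfl⟩ := Finset.mem_image.1 hO
    exact ⟨g, (Finset.mem_filter.1 hg).2, rfl⟩
  choose! r hrZ hrΦ using hrep
  let a : Finset (Subgroup H) → ℕ := fun O => Nat.card (C (r O)) / d
  let e : Finset (Subgroup H) → ℕ := fun O => (C (r O)).relIndex (MulAction.stabilizer H (C (r O)))
  have hd0 : 0 < d := Nat.card_pos
  have hadvd : ∀ O, Nat.card (C (r O)) = a O * d := fun O =>
    (Nat.div_mul_cancel (Subgroup.card_dvd_of_le (hZC _))).symm
  have ha : ∀ O ∈ T, 2 ≤ a O := by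
    intro O hO
    have hlt : Z < C (r O) := lt_of_le_of_ne (hZC _) fun h => hrZ O hO (h ▸ hgC _)
    have h1 : d < a O * d := by
      rw [← hadvd]
      refine lt_of_le_of_ne (Subgroup.card_le_of_le hlt.le) fun hc => hlt.ne ?_
      exact Subgroup.eq_of_le_of_card_ge hlt.le hc.ge
    by_contra hc
    have : a O * d ≤ 1 * d := Nat.mul_le_mul_right _ (by omega)
    omega
  have hstab : ∀ g, C g ≤ MulAction.stabilizer H (C g) := by
    intro g x hx
    rw [MulAction.mem_stabilizer_iff]
    conv_rhs => rw [show g = x * g * x⁻¹ by rw [((hmemC g x).1 hx).eq, mul_inv_cancel_right]]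
    exact (hCconj x g).symm
  have he : ∀ O ∈ T, e O = 1 ∨ e O = 2 := by
    intro O hO
    obtain ⟨g', hg'⟩ := htwo (r O) (hrZ O hO)
    have hle : e O ≤ 2 := by
      let S' := MulAction.stabilizer H (C (r O))
      let f : S' ⧸ (C (r O)).subgroupOf S' → H :=
        Quotient.lift (fun s : S' => (s : H) * r O * (s : H)⁻¹) (by
          intro s t hst
          have hm := QuotientGroup.leftRel_apply.1 hst
          rw [Subgroup.mem_subgroupOf, hmemC] at hm
          have hm' : ((s : H)⁻¹ * t) * r O = r O * ((s : H)⁻¹ * t) := by exact_mod_cast hm.eq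
          calc (s : H) * r O * (s : H)⁻¹
              = s * (r O * ((s : H)⁻¹ * t)) * (t : H)⁻¹ := by group
            _ = s * (((s : H)⁻¹ * t) * r O) * (t : H)⁻¹ := by rw [hm']
            _ = (t : H) * r O * (t : H)⁻¹ := by group)
      have hf : Function.Injective f := by
        intro x y hxy
        induction x using QuotientGroup.induction_on with
        | _ s =>
          induction y using QuotientGroup.induction_on with
          | _ t =>
            refine QuotientGroup.eq.2 ?_
            rw [Subgroup.mem_subgroupOf, hmemC]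
            have hxy' : (s : H) * r O * (s : H)⁻¹ = (t : H) * r O * (t : H)⁻¹ := hxy
            show ((s : H)⁻¹ * t) * r O = r O * ((s : H)⁻¹ * t)
            calc ((s : H)⁻¹ * t) * r O = (s : H)⁻¹ * ((t : H) * r O * (t : H)⁻¹) * t := by group
              _ = (s : H)⁻¹ * ((s : H) * r O * (s : H)⁻¹) * t := by rw [hxy']
              _ = r O * ((s : H)⁻¹ * t) := by group
      have hsub : Set.range f ⊆ {r O, g'} := by
        rintro _ ⟨x, rfl⟩
        induction x using QuotientGroup.induction_on with
        | _ s =>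
          have hs : (s : H) • C (r O) = C (r O) := MulAction.mem_stabilizer_iff.1 s.2
          have hmem : (s : H) * r O * (s : H)⁻¹ ∈ C (r O) := by
            rw [← hs, ← hCconj]; exact hgC _
          exact hg' s ((hmemC _ _).1 hmem)
      calc e O = Nat.card (S' ⧸ (C (r O)).subgroupOf S') := Subgroup.index_eq_card _
        _ = (Set.range f).ncard := by
            rw [← Nat.card_coe_set_eq]; exact Nat.card_congr (Equiv.ofInjective f hf)
        _ ≤ ({r O, g'} : Set H).ncard := Set.ncard_le_ncard hsub (Set.toFinite _)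
        _ ≤ 2 := (Set.ncard_insert_le _ _).trans (by rw [Set.ncard_singleton])
    have : e O ≠ 0 := Subgroup.index_ne_zero_of_finite
    omega
  set N := Z.index with hNdef
  have hN0 : 0 < N := Nat.pos_of_ne_zero Subgroup.index_ne_zero_of_finite
  have hcardH : Nat.card H = d * N := (Subgroup.card_mul_index Z).symm
  have horb : ∀ O ∈ T, O.card * (a O * e O) = N := by
    intro O hO
    have h1 : O.card = (MulAction.stabilizer H (C (r O))).index := by
      rw [MulAction.index_stabilizer, Set.ncard_eq_toFinset_card']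
      exact congrArg Finset.card (hrΦ O hO).symm
    have h2 : (C (r O)).index = e O * O.card := by
      rw [h1]; exact (Subgroup.relIndex_mul_index (hstab _)).symm
    have h3 := Subgroup.card_mul_index (C (r O))
    rw [hadvd, h2, hcardH] at h3
    exact Nat.eq_of_mul_eq_mul_left hd0 (by rw [← h3]; ring)
  -- the two sums
  have hsumS : ∀ F : Subgroup H → ℚ, (∀ (h : H) (A : Subgroup H), F (h • A) = F A) →
      ∑ g ∈ S, F (C g) = ∑ O ∈ T, (O.card : ℚ) * ((a O : ℚ) * d - d) * F (C (r O)) := by
    intro F hF
    rw [← Finset.sum_fiberwise_of_maps_to (t := T) (fun g hg => Finset.mem_image_of_mem Φ hg)]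
    refine Finset.sum_congr rfl fun O hO => ?_
    rw [← Finset.sum_fiberwise_of_maps_to (t := O) (g := C) (fun g hg => by
      rw [Finset.mem_filter] at hg
      rw [← hg.2, hΦmem]
      exact MulAction.mem_orbit_self _)]
    have hval : ∀ A ∈ O, ∑ g ∈ (S.filter fun i => Φ i = O).filter fun i => C i = A, F (C g) =
        ((a O : ℚ) * d - d) * F (C (r O)) := by
      intro A hA
      have hA' : A ∈ Φ (r O) := by rw [hrΦ O hO]; exact hA
      obtain ⟨h, rfl⟩ := (hΦmem _ A).1 hA'
      rw [Finset.sum_congr rfl (g := fun _ => F (C (r O))) fun g hg => by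
        rw [(Finset.mem_filter.1 hg).2]; exact hF h _]
      rw [Finset.sum_const, nsmul_eq_mul]
      congr 1
      have := hfib (r O) (hrZ O hO) _ hA'
      rw [hrΦ O hO, hadvd] at this
      have h' := congrArg (Nat.cast : ℕ → ℚ) this
      push_cast at h'
      linarith
    rw [Finset.sum_congr rfl hval, Finset.sum_const, nsmul_eq_mul]
    ring
  have hTS : (S.card : ℚ) = ∑ O ∈ T, (O.card : ℚ) * ((a O : ℚ) * d - d) := by
    have := hsumS (fun _ => 1) fun _ _ => rfl
    simpa using this
  have hScard : S.card + d = d * N := by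
    rw [← hcardH, hddef, Nat.card_eq_fintype_card, Nat.card_eq_fintype_card,
      Fintype.card_subtype (fun x => x ∈ Z), hSdef, add_comm]
    exact Finset.card_filter_add_card_filter_not _
  have hKS : ∑ g ∈ S, (Nat.card (C g) : ℚ) + d * (d * N : ℕ) =
      (Nat.card (ConjClasses H) : ℚ) * (d * N : ℕ) := by
    rw [← hcardH]
    have h := sum_card_centralizer (H := H)
    rw [← Finset.sum_filter_add_sum_filter_not Finset.univ (fun g => g ∉ Z)] at h
    have hz : ∑ g ∈ Finset.univ.filter (fun g => ¬ g ∉ Z), Nat.card (Subgroup.centralizer ({g} : Set H)) =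
        d * Nat.card H := by
      rw [Finset.sum_congr rfl (g := fun _ => Nat.card H) fun g hg => by
        rw [Finset.mem_filter, not_not] at hg
        rw [Subgroup.centralizer_eq_top_iff_subset.2 (Set.singleton_subset_iff.2 (hZ hg.2)),
          Subgroup.card_top]]
      rw [Finset.sum_const, smul_eq_mul, hddef, Nat.card_eq_fintype_card (α := Z),
        Fintype.card_subtype (fun x => x ∈ Z)]
      simp only [not_not]
    rw [hz] at h
    have h' := congrArg (Nat.cast : ℕ → ℚ) h
    push_cast at h'
    rw [hSdef]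
    linarith
  have hN' : (0 : ℚ) < N := by exact_mod_cast hN0
  have hd' : (0 : ℚ) < d := by exact_mod_cast hd0
  have hOc : ∀ O ∈ T, (O.card : ℚ) = N / ((a O : ℚ) * e O) := by
    intro O hO
    have h := congrArg (Nat.cast : ℕ → ℚ) (horb O hO)
    push_cast at h
    have h0 : (a O : ℚ) * e O ≠ 0 := fun hc => by rw [hc, mul_zero] at h; linarith
    rw [eq_div_iff h0]; exact h
  have heq : ∑ O ∈ T, ((a O : ℚ) - 1) / (a O * e O) = 1 - 1 / N := by
    have h1 : (S.card : ℚ) = d * N * ∑ O ∈ T, ((a O : ℚ) - 1) / (a O * e O) := by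
      rw [hTS, Finset.mul_sum]
      refine Finset.sum_congr rfl fun O hO => ?_
      rw [hOc O hO]; ring
    have h2 := congrArg (Nat.cast : ℕ → ℚ) hScard
    push_cast at h2
    field_simp
    nlinarith [h1, h2]
  have hK : (Nat.card (ConjClasses H) : ℚ) / d = 1 + ∑ O ∈ T, ((a O : ℚ) - 1) / e O := by
    have h1 : ∑ g ∈ S, (Nat.card (C g) : ℚ) =
        d * d * N * ∑ O ∈ T, ((a O : ℚ) - 1) / e O := by
      rw [hsumS (fun A => (Nat.card A : ℚ)) fun h A => by
        exact_mod_cast (Nat.card_congr (Subgroup.equivSMul (MulAut.conj h) A).toEquiv).symm,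
        Finset.mul_sum]
      refine Finset.sum_congr rfl fun O hO => ?_
      rw [hOc O hO, hadvd]
      push_cast
      have : (2 : ℚ) ≤ a O := by exact_mod_cast ha O hO
      have he0 : (e O : ℚ) ≠ 0 := by
        rcases he O hO with h | h <;> rw [h] <;> norm_num
      field_simp
    rw [h1] at hKS
    push_cast at hKS
    field_simp
    refine mul_right_cancel₀ (b := (d : ℚ) * N) (mul_pos hd' hN').ne' ?_
    linear_combination -hKS
  rw [hK]
  exact typeConcl_of_equation T a e hN0 ha he
    (fun O hO => ⟨O.card, by rw [← horb O hO]; ring⟩) heq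

end CfsgLib.CoprimeTrans
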