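import Cfsg.Agent.CoprimeTransitive.AffineData
import Cfsg.Agent.GroupBasics.Lift
import Cfsg.Agent.PLocal.PSolvable
import Cfsg.Agent.BlocksCharsC.PGroupCenter

/-!
# `p`-soluble groups with one class of nontrivial `p`-elements
-/

set_option autoImplicit false
set_option linter.style.haveILetI false
set_option linter.unusedSectionVars false

namespace CfsgLib.CoprimeTrans

open Matrix

universe u

variable {Γ : Type u} [Group Γ] [Finite Γ] {p : ℕ} [Fact p.Prime]

/-- A nontrivial finite additive group of exponent `p` is a coordinate space. -/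
theorem exists_addEquiv_fun {M : Type*} [AddCommGroup M] [Finite M] [Nontrivial M]
    (hM : ∀ x : M, p • x = 0) : ∃ n, 1 ≤ n ∧ Nonempty (M ≃+ (Fin n → ZMod p)) := by
  obtain ⟨inst⟩ : Nonempty (Module (ZMod p) M) := ⟨AddCommGroup.zmodModule hM⟩
  haveI : Module.Finite (ZMod p) M := Module.Finite.of_finite
  refine ⟨Module.finrank (ZMod p) M, Nat.one_le_iff_ne_zero.2 fun h0 => ?_,
    ⟨(Module.finBasis (ZMod p) M).equivFun.toAddEquiv⟩⟩
  have h := Module.natCard_eq_pow_finrank (K := ZMod p) (V := M)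
  rw [h0, pow_zero] at h
  exact (Finite.one_lt_card_iff_nontrivial.2 ‹_›).ne' h

/-- A group with a self-centralising elementary abelian normal Sylow subgroup, transitive on
its nonidentity elements, is affine. -/
theorem exists_affData_core {G : Type u} [Group G] [Finite G] (π : G →* Γ)
    (hπ : Function.Surjective π) (hker : ¬ p ∣ Nat.card π.ker) (V : Subgroup Γ) [V.Normal]
    (hV : IsPGroup p V) (hVne : V ≠ ⊥) (hidx : ¬ p ∣ V.index)
    (hcomm : ∀ x ∈ V, ∀ y ∈ V, x * y = y * x) (hexp : ∀ x ∈ V, x ^ p = 1)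
    (hcent : Subgroup.centralizer (V : Set Γ) ≤ V)
    (htrans : ∀ x ∈ V, ∀ y ∈ V, x ≠ 1 → y ≠ 1 → IsConj x y) :
    ∃ n, 1 ≤ n ∧ ∃ (H : Type u) (_ : Group H) (_ : Finite H), Nonempty (AffData G H p n) := by
  classical
  have hp : p.Prime := Fact.out
  obtain ⟨m, hm⟩ := IsPGroup.iff_card.1 hV
  obtain ⟨H, hH⟩ := Subgroup.exists_right_complement'_of_coprime (N := V)
    (by rw [hm]; exact (hp.coprime_iff_not_dvd.2 hidx).pow_left m)
  let e₀ : H →* Γ ⧸ V := (QuotientGroup.mk' V).comp H.subtype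
  have he₀ : Function.Bijective e₀ := by
    constructor
    · refine (injective_iff_map_eq_one e₀).2 fun h hh => ?_
      exact Subtype.ext (Subgroup.disjoint_def.1 hH.disjoint
        ((QuotientGroup.eq_one_iff _).1 hh) h.2)
    · intro y
      obtain ⟨γ, rfl⟩ := QuotientGroup.mk_surjective y
      obtain ⟨a, ha, c, hc, rfl⟩ := Subgroup.mem_sup_of_normal_left.1
        (hH.sup_eq_top ▸ Subgroup.mem_top γ)
      refine ⟨⟨c, hc⟩, ?_⟩
      show ((c : Γ) : Γ ⧸ V) = ((a * c : Γ) : Γ ⧸ V)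
      rw [QuotientGroup.mk_mul, (QuotientGroup.eq_one_iff a).2 ha, one_mul]
  let e : H ≃* Γ ⧸ V := MulEquiv.ofBijective e₀ he₀
  let f₀ : Γ →* H := e.symm.toMonoidHom.comp (QuotientGroup.mk' V)
  have hf₀H : ∀ h : H, f₀ h = h := fun h => e.symm_apply_apply h
  have hf₀V : ∀ v ∈ V, f₀ v = 1 := fun v hv => by
    show e.symm ((v : Γ) : Γ ⧸ V) = 1
    rw [(QuotientGroup.eq_one_iff v).2 hv, map_one]
  have hdiff : ∀ γ : Γ, γ * ((f₀ γ : H) : Γ)⁻¹ ∈ V := fun γ => by
    rw [← QuotientGroup.eq_one_iff, QuotientGroup.mk_mul, QuotientGroup.mk_inv,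
      show (((f₀ γ : H) : Γ) : Γ ⧸ V) = γ from e.apply_symm_apply (QuotientGroup.mk' V γ),
      mul_inv_cancel]
  letI : CommGroup V :=
    { (inferInstance : Group V) with mul_comm := fun a c => Subtype.ext (hcomm a a.2 c c.2) }
  haveI : Nontrivial (Additive V) := (Subgroup.nontrivial_iff_ne_bot V).2 hVne
  haveI : Finite (Additive V) := inferInstanceAs (Finite V)
  obtain ⟨n, hn1, ⟨E⟩⟩ := exists_addEquiv_fun (p := p) (M := Additive V) fun x =>
    Additive.toMul.injective (Subtype.ext (hexp _ (Additive.toMul x).2))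
  let act : H → (Additive V →+ Additive V) := fun h =>
    MonoidHom.toAdditive (MulAut.conjNormal (H := V) (h : Γ)).toMonoidHom
  refine ⟨n, hn1, H, inferInstance, inferInstance, ?_⟩
  let L : H →* Module.End (ZMod p) (Fin n → ZMod p) :=
    { toFun := fun h =>
        (E.toAddMonoidHom.comp ((act h).comp E.symm.toAddMonoidHom)).toZModLinearMap p
      map_one' := by
        refine LinearMap.ext fun x => ?_
        simp only [AddMonoidHom.coe_toZModLinearMap, AddMonoidHom.coe_comp, Function.comp_apply, AddEquiv.coe_toAddMonoidHom]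
        rw [show act 1 (E.symm x) = E.symm x from Additive.toMul.injective (Subtype.ext (by
          show ((1 : H) : Γ) * ((Additive.toMul (E.symm x) : V) : Γ) * ((1 : H) : Γ)⁻¹ = _
          simp))]
        simp
      map_mul' := fun g h => by
        refine LinearMap.ext fun x => ?_
        simp only [AddMonoidHom.coe_toZModLinearMap, AddMonoidHom.coe_comp, Function.comp_apply,
          AddEquiv.coe_toAddMonoidHom, Module.End.mul_apply, AddEquiv.symm_apply_apply]
        exact congrArg E (Additive.toMul.injective (Subtype.ext (by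
          show ((g * h : H) : Γ) * ((Additive.toMul (E.symm x) : V) : Γ) * ((g * h : H) : Γ)⁻¹ =
            (g : Γ) * ((h : Γ) * ((Additive.toMul (E.symm x) : V) : Γ) * (h : Γ)⁻¹) * (g : Γ)⁻¹
          simp [mul_assoc]))) }
  let ρ : H →* GL (Fin n) (ZMod p) :=
    (LinearMap.toMatrixAlgEquiv'.toAlgHom.toMonoidHom.comp L).toHomUnits
  let co : Γ → (Fin n → ZMod p) := fun γ => E (Additive.ofMul ⟨γ * ((f₀ γ : H) : Γ)⁻¹, hdiff γ⟩)
  have hρ : ∀ (h : H) (v : V), (ρ h : Matrix (Fin n) (Fin n) (ZMod p)) *ᵥ E (Additive.ofMul v) =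
      E (Additive.ofMul ⟨(h : Γ) * v * (h : Γ)⁻¹, ‹V.Normal›.conj_mem _ v.2 _⟩) := by
    intro h v
    show LinearMap.toMatrixAlgEquiv' (L h) *ᵥ _ = _
    rw [← Matrix.toLinAlgEquiv'_apply, Matrix.toLinAlgEquiv'_toMatrixAlgEquiv']
    show E (act h (E.symm (E (Additive.ofMul v)))) = _
    rw [AddEquiv.symm_apply_apply]
    exact congrArg E (Additive.toMul.injective (Subtype.ext rfl))
  refine ⟨{
    f := f₀.comp π
    ρ := ρ
    inj := ?_
    trans := ?_
    coprime := ?_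
    b := fun g => co (π g)
    cocycle := ?_
    full := ?_
    coprime_ker := ?_ }⟩
  · refine (injective_iff_map_eq_one ρ).2 fun h hh => Subtype.ext ?_
    have hfix : ∀ v ∈ V, v * (h : Γ) = h * v := fun v hv => by
      have h1 := hρ h ⟨v, hv⟩
      rw [hh, Units.val_one, one_mulVec] at h1
      have h2 := congrArg (fun x : Additive V => ((Additive.toMul x : V) : Γ)) (E.injective h1)
      have h3 : v = (h : Γ) * v * (h : Γ)⁻¹ := h2
      exact (eq_mul_inv_iff_mul_eq.1 h3)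
    exact Subgroup.disjoint_def.1 hH.disjoint (hcent (Subgroup.mem_centralizer_iff.2 hfix)) h.2
  · intro x y hx hy
    set a := Additive.toMul (E.symm x) with ha
    set c := Additive.toMul (E.symm y) with hc
    have hxa : E (Additive.ofMul a) = x := E.apply_symm_apply x
    have hyc : E (Additive.ofMul c) = y := E.apply_symm_apply y
    have ha1 : (a : Γ) ≠ 1 := fun h => hx (by
      rw [← hxa, show a = 1 from Subtype.ext h]; exact map_zero E)
    have hc1 : (c : Γ) ≠ 1 := fun h => hy (by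
      rw [← hyc, show c = 1 from Subtype.ext h]; exact map_zero E)
    obtain ⟨γ, hγ⟩ := isConj_iff.1 (htrans a a.2 c c.2 ha1 hc1)
    refine ⟨f₀ γ, ?_⟩
    rw [← hxa, hρ, ← hyc]
    refine congrArg (fun v => E (Additive.ofMul v)) (Subtype.ext ?_)
    show ((f₀ γ : H) : Γ) * a * ((f₀ γ : H) : Γ)⁻¹ = c
    set u := γ * ((f₀ γ : H) : Γ)⁻¹ with hu
    have h1 : u⁻¹ * (c : Γ) * u = c := by
      rw [mul_assoc, hcomm _ c.2 u (hdiff γ), inv_mul_cancel_left]
    rw [← h1, ← hγ, hu]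
    group
  · intro hd
    rw [Nat.card_congr e.toEquiv, ← Subgroup.index_eq_card] at hd
    exact hidx hd
  · intro g g'
    show co (π (g * g')) = co (π g) + (ρ (f₀ (π g)) : Matrix (Fin n) (Fin n) (ZMod p)) *ᵥ co (π g')
    rw [hρ, ← map_add, ← ofMul_mul]
    refine congrArg (fun v => E (Additive.ofMul v)) (Subtype.ext ?_)
    show π (g * g') * ((f₀ (π (g * g')) : H) : Γ)⁻¹ = π g * ((f₀ (π g) : H) : Γ)⁻¹ *
      (((f₀ (π g) : H) : Γ) * (π g' * ((f₀ (π g') : H) : Γ)⁻¹) * ((f₀ (π g) : H) : Γ)⁻¹)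
    simp [mul_assoc]
  · intro h x
    set a := Additive.toMul (E.symm x) with ha
    obtain ⟨g, hg⟩ := hπ ((a : Γ) * h)
    have hf : f₀ (π g) = h := by rw [hg, map_mul, hf₀V _ a.2, hf₀H, one_mul]
    refine ⟨g, hf, ?_⟩
    show E (Additive.ofMul _) = x
    rw [show (⟨π g * ((f₀ (π g) : H) : Γ)⁻¹, hdiff (π g)⟩ : V) = a from Subtype.ext (by
      show π g * ((f₀ (π g) : H) : Γ)⁻¹ = a
      rw [hf, hg, mul_inv_cancel_right])]
    exact E.apply_symm_apply x
  · intro g hg hb hd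
    have h1 : π g * ((f₀ (π g) : H) : Γ)⁻¹ = 1 := by
      have h2 : E (Additive.ofMul ⟨π g * ((f₀ (π g) : H) : Γ)⁻¹, hdiff (π g)⟩) = 0 := hb
      rw [map_eq_zero_iff E E.injective, ofMul_eq_zero] at h2
      exact congrArg Subtype.val h2
    rw [show f₀ (π g) = 1 from hg, OneMemClass.coe_one, inv_one, mul_one] at h1
    exact hker (hd.trans (Subgroup.orderOf_dvd_natCard _ h1))

/-- **Reduction.** A `p`-soluble group of order divisible by `p` in which all nontrivial
`p`-elements are conjugate is coprime-by-(transitive affine). -/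
theorem exists_affData {G : Type u} [Group G] [Finite G] (hsolv : Cfsg.IsPSolvable p G)
    (hdiv : p ∣ Nat.card G)
    (hconj : ∀ x y : G, x ≠ 1 → y ≠ 1 → (∃ k : ℕ, orderOf x = p ^ k) →
      (∃ k : ℕ, orderOf y = p ^ k) → IsConj x y) :
    ∃ n, 1 ≤ n ∧ ∃ (H : Type u) (_ : Group H) (_ : Finite H), Nonempty (AffData G H p n) := by
  classical
  have hp : p.Prime := Fact.out
  set K := Cfsg.pPrimeCore p G with hK
  have hKc : (Nat.card K).Coprime p := CfsgLib.PLocal.coprime_card_pPrimeCore p G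
  have hKp : ¬ p ∣ Nat.card K := CfsgLib.PLocal.not_dvd_iff_coprime.1 hKc
  set V := Cfsg.pCore p (G ⧸ K) with hV
  have hO : Cfsg.pPrimeCore p (G ⧸ K) = ⊥ :=
    CfsgLib.PLocal.pPrimeCore_quotient_pPrimeCore_eq_bot p G
  have hps := CfsgLib.PLocal.isPSolvable_quotient hsolv K
  haveI : Nontrivial (G ⧸ K) := by
    rw [QuotientGroup.nontrivial_iff]
    intro h
    rw [h, Subgroup.card_top] at hKp
    exact hKp hdiv
  have hVne : V ≠ ⊥ := (CfsgLib.PLocal.pCore_ne_bot_or_of_isPSolvable hps).resolve_right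
    (fun h => h hO)
  have hVp : IsPGroup p V := CfsgLib.PLocal.isPGroup_pCore p _
  have hconjΓ : ∀ x y : G ⧸ K, x ≠ 1 → y ≠ 1 → (∃ k : ℕ, orderOf x = p ^ k) →
      (∃ k : ℕ, orderOf y = p ^ k) → IsConj x y := by
    rintro x y hx hy ⟨i, hi⟩ ⟨j, hj⟩
    obtain ⟨x', rfl, hx'⟩ := CfsgLib.GroupBasics.exists_lift_orderOf_eq x
      (by rw [hi]; exact hKc.pow_right i)
    obtain ⟨y', rfl, hy'⟩ := CfsgLib.GroupBasics.exists_lift_orderOf_eq y
      (by rw [hj]; exact hKc.pow_right j)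
    exact (QuotientGroup.mk' K).map_isConj (hconj x' y' (fun h => hx (by rw [h]; rfl))
      (fun h => hy (by rw [h]; rfl)) ⟨i, hx' ▸ hi⟩ ⟨j, hy' ▸ hj⟩)
  have hord : ∀ x ∈ V, ∃ k : ℕ, orderOf x = p ^ k := fun x hx => by
    obtain ⟨k, hk⟩ := IsPGroup.iff_orderOf.1 hVp ⟨x, hx⟩
    exact ⟨k, by rw [← hk, Subgroup.orderOf_mk]⟩
  haveI : Nontrivial V := (Subgroup.nontrivial_iff_ne_bot V).2 hVne
  haveI := hVp.center_nontrivial
  have hdvd : p ∣ Nat.card (Subgroup.center V) := by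
    exact (hVp.to_subgroup (Subgroup.center V)).card_eq_or_dvd.resolve_left
      (Finite.one_lt_card_iff_nontrivial.2 inferInstance).ne'
  obtain ⟨z, hz⟩ := exists_prime_orderOf_dvd_card' (G := Subgroup.center V) p hdvd
  set v₀ : G ⧸ K := ((z : V) : G ⧸ K) with hv₀
  have hv₀p : orderOf v₀ = p := by rw [hv₀, Subgroup.orderOf_coe, Subgroup.orderOf_coe, hz]
  have hv₀1 : v₀ ≠ 1 := fun h => by
    rw [h, orderOf_one] at hv₀p
    exact hp.one_lt.ne hv₀p
  have hv₀V : v₀ ∈ V := (z : V).2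
  have hall : ∀ x : G ⧸ K, x ≠ 1 → (∃ k : ℕ, orderOf x = p ^ k) → ∃ g, g * v₀ * g⁻¹ = x :=
    fun x hx hxp => isConj_iff.1 (hconjΓ v₀ x hv₀1 hx ⟨1, by rw [pow_one, hv₀p]⟩ hxp)
  have hidx : ¬ p ∣ V.index := by
    obtain ⟨S⟩ := (inferInstance : Nonempty (Sylow p (G ⧸ K)))
    have : (S : Subgroup (G ⧸ K)) = V := by
      refine le_antisymm (fun x hx => ?_) (CfsgLib.PLocal.pCore_le_sylow S)
      by_cases h1 : x = 1
      · exact h1 ▸ one_mem _
      obtain ⟨k, hk⟩ := IsPGroup.iff_orderOf.1 S.isPGroup' ⟨x, hx⟩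
      obtain ⟨g, rfl⟩ := hall x h1 ⟨k, by rw [← hk, Subgroup.orderOf_mk]⟩
      exact (inferInstance : V.Normal).conj_mem _ hv₀V g
    rw [← this]
    exact S.not_dvd_index
  have hcen : ∀ y ∈ V, y * v₀ = v₀ * y := fun y hy =>
    congrArg Subtype.val (Subgroup.mem_center_iff.1 z.2 ⟨y, hy⟩)
  refine exists_affData_core (QuotientGroup.mk' K) (QuotientGroup.mk'_surjective K)
    (by rwa [QuotientGroup.ker_mk']) V hVp hVne hidx ?_ ?_
    (CfsgLib.PLocal.centralizer_pCore_le hps hO)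
    (fun x hx y hy hx1 hy1 => hconjΓ x y hx1 hy1 (hord x hx) (hord y hy))
  · intro x hx y hy
    by_cases h1 : x = 1
    · rw [h1, one_mul, mul_one]
    obtain ⟨g, rfl⟩ := hall x h1 (hord x hx)
    have h2 := hcen (g⁻¹ * y * g) (by
      have := (inferInstance : V.Normal).conj_mem y hy g⁻¹
      rwa [inv_inv] at this)
    calc g * v₀ * g⁻¹ * y = g * (v₀ * (g⁻¹ * y * g)) * g⁻¹ := by group
      _ = y * (g * v₀ * g⁻¹) := by rw [← h2]; group
  · intro x hx
    by_cases h1 : x = 1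
    · rw [h1, one_pow]
    obtain ⟨g, rfl⟩ := hall x h1 (hord x hx)
    have h0 : v₀ ^ p = 1 := orderOf_dvd_iff_pow_eq_one.1 hv₀p.dvd
    rw [conj_pow, h0, mul_one, mul_inv_cancel]

end CfsgLib.CoprimeTrans
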