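import Cfsg.Agent.CoprimeTransitive.GLTwo
import Cfsg.Agent.CoprimeTransitive.Count
import Cfsg.Agent.CoprimeTransitive.Lift
import Cfsg.Agent.GroupBasics.Conjugates
import Cfsg.Agent.Codegree.Kernel
import Cfsg.Agent.Characters.RepBasic
import Cfsg.Agent.S2638
import Cfsg.Agent.S3430
import Cfsg.Agent.S4485
import Cfsg.Agent.S4503
import Cfsg.Agent.S4504
import Cfsg.Agent.Linear.Basic

/-!
# Coprime transitive linear groups of dimension at least three

Such a group has a normal subgroup of primitive prime order, so it is semilinear and has many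
classes; the few exceptions are settled by their orders.
-/

set_option autoImplicit false
set_option linter.style.haveILetI false
set_option linter.unusedSectionVars false

namespace CfsgLib.CoprimeTrans

open Matrix Polynomial
open scoped Pointwise

variable {H : Type*} [Group H] [Finite H] {p n : ℕ} [Fact p.Prime]

/-- An element of prime order `r ≠ p` is conjugate to at most `n` elements of the group it
generates. -/
theorem index_centralizer_le (ρ : H →* GL (Fin n) (ZMod p)) (hinj : Function.Injective ρ) {r : ℕ}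
    (hr : r.Prime) (hrp : r ≠ p) {x : H} (hx : orderOf x = r)
    (hnorm : ∀ h : H, h * x * h⁻¹ ∈ Subgroup.zpowers x) :
    (Subgroup.centralizer ({x} : Set H)).index ≤ n := by
  classical
  haveI := Fact.mk hr
  let Ω := AlgebraicClosure (ZMod p)
  haveI : CharP Ω p := charP_of_injective_algebraMap (algebraMap (ZMod p) Ω).injective p
  let f : Matrix (Fin n) (Fin n) (ZMod p) →+* Matrix (Fin n) (Fin n) Ω :=
    (algebraMap (ZMod p) Ω).mapMatrix
  have hfinj : Function.Injective f := Matrix.map_injective (algebraMap (ZMod p) Ω).injective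
  set M : H → Matrix (Fin n) (Fin n) Ω := fun h => f (ρ h : Matrix (Fin n) (Fin n) (ZMod p)) with hM
  have hMpow : ∀ (h : H) (i : ℕ), M (h ^ i) = M h ^ i := fun h i => by
    simp [hM, map_pow]
  have hMx1 : M x ≠ 1 := by
    intro h
    have : x = 1 := hinj (Units.ext (hfinj (by rw [map_one, Units.val_one, map_one]; exact h)))
    exact hr.one_lt.ne' (hx.symm.trans (by rw [this, orderOf_one]))
  have hMr : M x ^ r = 1 := by rw [← hMpow, ← hx, pow_orderOf_eq_one]; simp [hM]
  have hχ : (M x).charpoly.Splits := IsAlgClosed.splits _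
  -- an eigenvalue of order `r`
  obtain ⟨θ, hθ, hθord⟩ : ∃ θ : Ω, (M x).charpoly.IsRoot θ ∧ orderOf θ = r := by
    by_contra hne
    have hall : ∀ θ ∈ (M x).charpoly.roots, θ = 1 := by
      intro θ hθ
      have hroot := ((mem_roots (Matrix.charpoly_monic _).ne_zero).1 hθ)
      by_contra h1
      refine hne ⟨θ, hroot, orderOf_eq_prime ?_ h1⟩
      haveI : Nonempty (Fin n) := by
        by_contra hem
        rw [not_nonempty_iff] at hem
        exact hMx1 (Subsingleton.elim _ _)
      have hs := spectrum.pow_mem_pow (M x) r (Matrix.mem_spectrum_iff_isRoot_charpoly.2 hroot)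
      rw [hMr, spectrum.one_eq] at hs
      exact hs
    have hprod := hχ.eq_prod_roots_of_monic (Matrix.charpoly_monic _)
    rw [Multiset.map_congr rfl (g := fun _ => X - C (1 : Ω)) (fun θ hθ => by rw [hall θ hθ]),
      Multiset.map_const', Multiset.prod_replicate] at hprod
    set N := Multiset.card (M x).charpoly.roots
    have hnil : (M x - 1) ^ N = 0 := by
      have h0 := Matrix.aeval_self_charpoly (M x)
      rw [hprod] at h0
      simpa using h0
    have hpN : (M x - 1) ^ (p ^ N) = 0 :=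
      pow_eq_zero_of_le (Nat.lt_pow_self (Fact.out : p.Prime).one_lt).le hnil
    haveI : Nonempty (Fin n) := by
      by_contra hem
      rw [not_nonempty_iff] at hem
      exact hMx1 (Subsingleton.elim _ _)
    rw [sub_pow_char_pow_of_commute (p := p) (h := Commute.one_right _), one_pow, sub_eq_zero] at hpN
    have hcop : (orderOf (M x)).Coprime (p ^ N) := by
      have hdvd : orderOf (M x) ∣ r := orderOf_dvd_of_pow_eq_one hMr
      exact Nat.Coprime.pow_right _ (Nat.Coprime.coprime_dvd_left hdvd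
        ((Nat.coprime_primes hr Fact.out).2 hrp))
    exact hMx1 (orderOf_eq_one_iff.1 (Nat.eq_one_of_dvd_coprimes hcop dvd_rfl
      (orderOf_dvd_of_pow_eq_one hpN)))
  have hpos : 0 < orderOf x := orderOf_pos x
  rw [← CfsgLib.GroupBasics.card_carrier_eq_index_centralizer]
  have hmem : ∀ y ∈ (ConjClasses.mk x).carrier, ∃ i, i < r ∧ x ^ i = y ∧
      θ ^ i ∈ (M x).charpoly.roots.toFinset := by
    intro y hy
    rw [ConjClasses.mem_carrier_iff_mk_eq, ConjClasses.mk_eq_mk_iff_isConj, isConj_comm,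
      isConj_iff] at hy
    obtain ⟨h, hh⟩ := hy
    obtain ⟨i, hi, hiy⟩ : ∃ i, i < r ∧ x ^ i = y := by
      have h' := (isOfFinOrder_of_finite x).mem_zpowers_iff_mem_range_orderOf.1 (hh ▸ hnorm h)
      rw [Finset.mem_image] at h'
      obtain ⟨i, hi, hiy⟩ := h'
      exact ⟨i, by rw [← hx]; exact Finset.mem_range.1 hi, hiy⟩
    refine ⟨i, hi, hiy, ?_⟩
    rw [Multiset.mem_toFinset, mem_roots (Matrix.charpoly_monic _).ne_zero]
    have hcp : (M (x ^ i)).charpoly = (M x).charpoly := by
      rw [hiy, ← hh]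
      have e : M (h * x * h⁻¹) = M h * M x * M h⁻¹ := by simp [hM, map_mul]
      rw [e]
      have e2 : M h * M h⁻¹ = 1 := by simp [hM, ← map_mul, ← Units.val_mul]
      have e3 : M h⁻¹ * M h = 1 := by simp [hM, ← map_mul, ← Units.val_mul]
      have := Matrix.charpoly_units_conj (⟨M h, M h⁻¹, e2, e3⟩ : (Matrix (Fin n) (Fin n) Ω)ˣ) (M x)
      rwa [← Matrix.coe_units_inv] at this
    rw [← hcp, ← Matrix.mem_spectrum_iff_isRoot_charpoly, hMpow]
    exact spectrum.pow_mem_pow (M x) i (Matrix.mem_spectrum_iff_isRoot_charpoly.2 hθ)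
  choose! idx hidx using hmem
  rw [Set.ncard_eq_toFinset_card _ (Set.toFinite _)]
  calc ((Set.toFinite (ConjClasses.mk x).carrier).toFinset).card
      ≤ (M x).charpoly.roots.toFinset.card := by
        refine Finset.card_le_card_of_injOn (fun y => θ ^ idx y) (fun y hy => ?_) fun y hy z hz hyz => ?_
        · rw [Finset.mem_coe, Set.Finite.mem_toFinset] at hy
          exact (hidx y hy).2.2
        · rw [Finset.mem_coe, Set.Finite.mem_toFinset] at hy hz
          rw [← (hidx y hy).2.1, ← (hidx z hz).2.1]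
          rw [pow_injOn_Iio_orderOf (x := θ) (by rw [Set.mem_Iio, hθord]; exact (hidx y hy).1)
            (by rw [Set.mem_Iio, hθord]; exact (hidx z hz).1) hyz]
    _ ≤ Multiset.card (M x).charpoly.roots := Multiset.toFinset_card_le _
    _ ≤ n := (Polynomial.card_roots' _).trans (by rw [Matrix.charpoly_natDegree_eq_dim, Fintype.card_fin])

/-- A normal subgroup of primitive prime order forces many classes. -/
theorem classes_of_normal_ppd (ρ : H →* GL (Fin n) (ZMod p)) (hinj : Function.Injective ρ)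
    (ht : IsTransitiveNZ ρ) (hn : 1 ≤ n) {r : ℕ} (hr : r.Prime) (hrp : r ≠ p)
    (hord : orderOf (p : ZMod r) = n) {x : H} (hx : orderOf x = r)
    (hnorm : ∀ h : H, h * x * h⁻¹ ∈ Subgroup.zpowers x) :
    p ^ n - 1 ≤ Nat.card (ConjClasses H) * n ^ 2 := by
  set A := Subgroup.centralizer ({x} : Set H) with hA
  have hidx := index_centralizer_le ρ hinj hr hrp hx hnorm
  have hcyc := (Cfsg.Agent.S2638.centralizer_primitive (F := ZMod p) (p := p) (ZMod.card p) hn hr hrp hord
    (ρ x) (by rw [orderOf_injective ρ hinj, hx])).1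
  have hcomm : ∀ a ∈ A, ∀ b ∈ A, a * b = b * a := by
    intro a ha b hb
    have hm : ∀ c ∈ A, ρ c ∈ Subgroup.centralizer ({ρ x} : Set (GL (Fin n) (ZMod p))) := fun c hc => by
      rw [hA, Subgroup.mem_centralizer_singleton_iff] at hc
      rw [Subgroup.mem_centralizer_singleton_iff, ← map_mul, ← map_mul, hc]
    refine hinj ?_
    rw [map_mul, map_mul]
    letI := hcyc.commGroup
    exact congrArg Subtype.val (mul_comm
      (⟨ρ a, hm a ha⟩ : Subgroup.centralizer ({ρ x} : Set (GL (Fin n) (ZMod p)))) ⟨ρ b, hm b hb⟩)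
  have h1 := card_le_classes_mul_index A hcomm
  have h2 := Nat.le_of_dvd Nat.card_pos (pow_sub_one_dvd_card ρ ht hn)
  rw [← A.card_mul_index] at h2
  calc p ^ n - 1 ≤ Nat.card A * A.index := h2
    _ ≤ Nat.card (ConjClasses H) * A.index * A.index := Nat.mul_le_mul_right _ h1
    _ ≤ Nat.card (ConjClasses H) * n * n := Nat.mul_le_mul (Nat.mul_le_mul_left _ hidx) hidx
    _ = _ := by ring

theorem sq_mul_lt_pow {p n : ℕ} (hp : 5 ≤ p) (hn : 3 ≤ n) : p * n ^ 2 < p ^ n := by
  have h5 : n ^ 2 < 5 ^ (n - 1) := by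
    obtain ⟨m, rfl⟩ : ∃ m, n = m + 3 := ⟨n - 3, by omega⟩
    show (m + 3) ^ 2 < 5 ^ (m + 2)
    clear hn
    induction m with
    | zero => norm_num
    | succ m ih =>
      have : 5 ^ (m + 1 + 2) = 5 * 5 ^ (m + 2) := by ring
      nlinarith
  calc p * n ^ 2 < p * 5 ^ (n - 1) := Nat.mul_lt_mul_of_pos_left h5 (by omega)
    _ ≤ p * p ^ (n - 1) := Nat.mul_le_mul_left _ (Nat.pow_le_pow_left hp _)
    _ = p ^ n := by rw [← pow_succ', Nat.sub_add_cancel (by omega)]

theorem classes_ge_of_normal_ppd (ρ : H →* GL (Fin n) (ZMod p)) (hinj : Function.Injective ρ)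
    (ht : IsTransitiveNZ ρ) (hn : 3 ≤ n) (hp5 : 5 ≤ p) {r : ℕ} (hr : r.Prime) (hrp : r ≠ p)
    (hord : orderOf (p : ZMod r) = n) {x : H} (hx : orderOf x = r)
    (hnorm : ∀ h : H, h * x * h⁻¹ ∈ Subgroup.zpowers x) :
    p ≤ Nat.card (ConjClasses H) := by
  have h1 := classes_of_normal_ppd ρ hinj ht (by omega) hr hrp hord hx hnorm
  have h2 := sq_mul_lt_pow hp5 hn
  by_contra hlt
  have h3 : 2 ≤ n ^ 2 := by nlinarith
  have : Nat.card (ConjClasses H) * n ^ 2 + n ^ 2 ≤ p * n ^ 2 := by
    rw [← Nat.succ_mul]; exact Nat.mul_le_mul_right _ (by omega)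
  omega

theorem psl_bound {p n : ℕ} (hp : 7 ≤ p) (hn : 5 ≤ n) :
    p * ((2 * n + 1) * (2 * n) * (n + 1)) < p ^ n := by
  have h5 : (2 * n + 1) * (2 * n) * (n + 1) < 7 ^ (n - 1) := by
    obtain ⟨m, rfl⟩ : ∃ m, n = m + 5 := ⟨n - 5, by omega⟩
    show _ < 7 ^ (m + 4)
    clear hn
    induction m with
    | zero => norm_num
    | succ m ih =>
      have : 7 ^ (m + 1 + 4) = 7 * 7 ^ (m + 4) := by ring
      have key : (2 * (m + 1 + 5) + 1) * (2 * (m + 1 + 5)) * (m + 1 + 5 + 1) ≤
          7 * ((2 * (m + 5) + 1) * (2 * (m + 5)) * (m + 5 + 1)) := by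
        ring_nf
        omega
      exact lt_of_le_of_lt key (this ▸ Nat.mul_lt_mul_of_pos_left ih (Nat.succ_pos 6))
  calc p * ((2 * n + 1) * (2 * n) * (n + 1)) < p * 7 ^ (n - 1) :=
        Nat.mul_lt_mul_of_pos_left h5 (by omega)
    _ ≤ p * p ^ (n - 1) := Nat.mul_le_mul_left _ (Nat.pow_le_pow_left hp _)
    _ = p ^ n := by rw [← pow_succ', Nat.sub_add_cancel (by omega)]

theorem psl_bound_five {n : ℕ} (hn : 6 ≤ n) :
    5 * ((2 * n + 1) * (2 * n) * (n + 1)) < 5 ^ n := by
  induction n, hn using Nat.le_induction with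
  | base => norm_num
  | succ n hn ih =>
    have : 5 ^ (n + 1) = 5 * 5 ^ n := by ring
    have key : (2 * (n + 1) + 1) * (2 * (n + 1)) * (n + 1 + 1) ≤
        5 * ((2 * n + 1) * (2 * n) * (n + 1)) := by
      obtain ⟨m, rfl⟩ : ∃ m, n = m + 6 := ⟨n - 6, by omega⟩
      ring_nf
      omega
    exact lt_of_le_of_lt (Nat.mul_le_mul_left 5 key)
      (this ▸ Nat.mul_lt_mul_of_pos_left ih (Nat.succ_pos 4))

/-- The case `H / Z(H) ≅ PSL(2, 2n + 1)`: the center alone gives enough classes. -/
theorem center_arith {p n z : ℕ} (hp : p.Prime) (hp5 : 5 ≤ p) (hn : 3 ≤ n)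
    (hr : (2 * n + 1).Prime) (hord : orderOf (p : ZMod (2 * n + 1)) = n)
    (hdvd : p ^ n - 1 ∣ z * ((2 * n + 1) * (2 * n) * (n + 1))) (hz : 0 < z) : p ≤ z := by
  have hn4 : n ≠ 4 := fun h => by subst h; norm_num at hr
  have hle := Nat.le_of_dvd (Nat.mul_pos hz (by positivity)) hdvd
  have hK : 2 ≤ (2 * n + 1) * (2 * n) * (n + 1) := by
    calc 2 ≤ 7 * 6 * 4 := by norm_num
      _ ≤ _ := Nat.mul_le_mul (Nat.mul_le_mul (by omega) (by omega)) (by omega)
  by_contra hlt
  have hzp : z * ((2 * n + 1) * (2 * n) * (n + 1)) + (2 * n + 1) * (2 * n) * (n + 1) ≤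
      p * ((2 * n + 1) * (2 * n) * (n + 1)) := by
    rw [← Nat.succ_mul]; exact Nat.mul_le_mul_right _ (by omega)
  by_cases h5 : 5 ≤ n
  · rcases Nat.lt_or_ge p 7 with h7 | h7
    · obtain rfl : p = 5 := by
        interval_cases p
        · rfl
        · exact absurd hp (by decide)
      by_cases h6 : 6 ≤ n
      · have := psl_bound_five h6; omega
      · obtain rfl : n = 5 := by omega
        norm_num at hle
        omega
    · have := psl_bound h7 h5; omega
  · obtain rfl : n = 3 := by omega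
    norm_num at hle hzp hdvd hord
    have hp14 : p < 14 := by nlinarith [Nat.mul_le_mul hp5 (le_refl (p * p))]
    have hord' : (p : ZMod 7) ^ 3 = 1 := by rw [← hord]; exact pow_orderOf_eq_one _
    interval_cases p
    all_goals first
      | (exfalso; revert hp; decide)
      | (exfalso; revert hord'; decide)
      | skip
    norm_num at hdvd
    have : 95 ∣ z := by
      refine (Nat.Coprime.dvd_mul_right (by norm_num : Nat.Coprime 95 168)).1 ?_
      exact (by norm_num : 95 ∣ 1330).trans hdvd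
    have := Nat.le_of_dvd hz this
    omega

/-- **Coprime transitive groups of dimension at least three have at least `p` classes.** -/
theorem classes_ge_three (ρ : H →* GL (Fin n) (ZMod p)) (hinj : Function.Injective ρ)
    (hco : ¬ p ∣ Nat.card H) (ht : IsTransitiveNZ ρ) (hn : 3 ≤ n) (hp5 : 5 ≤ p) :
    p ≤ Nat.card (ConjClasses H) := by
  classical
  have hp : p.Prime := Fact.out
  have hdiv := pow_sub_one_dvd_card ρ ht (by omega)
  by_cases h56 : p = 5 ∧ n = 6
  · obtain ⟨rfl, rfl⟩ := h56
    norm_num at hdiv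
    have hq : ∀ q, q.Prime → q ∣ 15624 → ∃ g : H, orderOf g = q := fun q hq hd => by
      haveI := Fact.mk hq
      exact exists_prime_orderOf_dvd_card' q (hd.trans hdiv)
    obtain ⟨g2, e2⟩ := hq 2 (by norm_num) (by norm_num)
    obtain ⟨g3, e3⟩ := hq 3 (by norm_num) (by norm_num)
    obtain ⟨g7, e7⟩ := hq 7 (by norm_num) (by norm_num)
    obtain ⟨g31, e31⟩ := hq 31 (by norm_num) (by norm_num)
    have h := card_le_classes_of_orders (![1, g2, g3, g7, g31]) (by
      intro i j h
      fin_cases i <;> fin_cases j <;> simp_all)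
    simpa using h
  obtain ⟨r, hr, hrd, hprim, hlarge⟩ := Cfsg.Agent.S3430.result p n hp.two_le (by omega)
    (by omega) (by omega) (by omega) (by omega)
  haveI := Fact.mk hr
  have hrp : r ≠ p := by
    intro h
    subst h
    exact hco (hrd.trans hdiv)
  have hp1 : 1 ≤ p ^ n := Nat.one_le_pow _ _ hp.pos
  have hcast : ∀ i, (p : ZMod r) ^ i = 1 ↔ r ∣ p ^ i - 1 := fun i => by
    rw [← CharP.cast_eq_zero_iff (ZMod r) r, Nat.cast_sub (Nat.one_le_pow _ _ hp.pos), sub_eq_zero]
    push_cast
    exact Iff.rfl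
  have hord : orderOf (p : ZMod r) = n := by
    rw [orderOf_eq_iff (by omega)]
    exact ⟨(hcast n).2 hrd, fun i hi hi0 h => hprim i hi0 hi ((hcast i).1 h)⟩
  have hnr : n ∣ r - 1 := by
    rw [← hord]
    exact ZMod.orderOf_dvd_card_sub_one (fun h => hrp
      ((Nat.prime_dvd_prime_iff_eq hr hp).1 ((CharP.cast_eq_zero_iff (ZMod r) r p).1 h)))
  have hr2 := hr.two_le
  have hnr' : n + 1 ≤ r := by
    have := Nat.le_of_dvd (by omega) hnr
    omega
  obtain ⟨R⟩ : Nonempty (Sylow r H) := inferInstance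
  obtain ⟨a, ha⟩ := IsPGroup.iff_card.1 R.isPGroup'
  have hrR : r ∣ Nat.card (R : Subgroup H) := R.dvd_card_of_dvd_card (hrd.trans hdiv)
  haveI : Nontrivial (R : Subgroup H) :=
    Finite.one_lt_card_iff_nontrivial.1 (lt_of_lt_of_le hr.one_lt (Nat.le_of_dvd Nat.card_pos hrR))
  obtain ⟨z, hz⟩ := exists_prime_orderOf_dvd_card' (G := Subgroup.center (R : Subgroup H)) r (by
    haveI := R.isPGroup'.center_nontrivial
    obtain ⟨b, hb⟩ := IsPGroup.iff_card.1
      (R.isPGroup'.to_subgroup (Subgroup.center (R : Subgroup H)))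
    rw [hb]
    refine dvd_pow_self _ ?_
    rintro rfl
    rw [pow_zero] at hb
    exact absurd (Finite.one_lt_card (α := Subgroup.center (R : Subgroup H))) (by omega))
  set x : H := ((z : (R : Subgroup H)) : H) with hxdef
  have hx : orderOf x = r := by rw [hxdef, Subgroup.orderOf_coe, Subgroup.orderOf_coe, hz]
  have hxR : x ∈ (R : Subgroup H) := (z : (R : Subgroup H)).2
  have hRx : ∀ y ∈ (R : Subgroup H), Commute y x := fun y hy =>
    congrArg Subtype.val (Subgroup.mem_center_iff.1 z.2 ⟨y, hy⟩)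
  have hCc : ∀ w : H, orderOf w = r → ∀ a b : H, Commute a w → Commute b w → Commute a b := by
    intro w hw a b ha hb
    have hcyc := (Cfsg.Agent.S2638.centralizer_primitive (F := ZMod p) (p := p) (ZMod.card p) (by omega) hr hrp hord
      (ρ w) (by rw [orderOf_injective ρ hinj, hw])).1
    have hm : ∀ c : H, Commute c w → ρ c ∈ Subgroup.centralizer ({ρ w} : Set (GL (Fin n) (ZMod p))) :=
      fun c hc => by rw [Subgroup.mem_centralizer_singleton_iff, ← map_mul, ← map_mul, hc.eq]
    refine hinj ?_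
    rw [map_mul, map_mul]
    letI := hcyc.commGroup
    exact congrArg Subtype.val (mul_comm
      (⟨ρ a, hm a ha⟩ : Subgroup.centralizer ({ρ w} : Set (GL (Fin n) (ZMod p)))) ⟨ρ b, hm b hb⟩)
  -- conjugates of `x` in `R` are powers of `x`
  have hunique : ∀ y ∈ (R : Subgroup H), orderOf y = r → y ∈ Subgroup.zpowers x := by
    intro y hy hyr
    have hcyc := (Cfsg.Agent.S2638.centralizer_primitive (F := ZMod p) (p := p) (ZMod.card p) (by omega) hr hrp hord
      (ρ x) (by rw [orderOf_injective ρ hinj, hx])).1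
    set Cx := Subgroup.centralizer ({ρ x} : Set (GL (Fin n) (ZMod p)))
    let xx : Cx := ⟨ρ x, Subgroup.mem_centralizer_singleton_iff.2 rfl⟩
    let yy : Cx := ⟨ρ y, Subgroup.mem_centralizer_singleton_iff.2 (by
      rw [← map_mul, ← map_mul, (hRx y hy).eq])⟩
    have hxx : orderOf xx = r := by rw [← Subgroup.orderOf_coe]; exact (orderOf_injective ρ hinj x).trans hx
    have hyy : yy ^ r = 1 := Subtype.ext (by
      show ρ y ^ r = 1
      rw [← map_pow, ← hyr, pow_orderOf_eq_one, map_one])
    have hmem : yy ∈ Subgroup.zpowers xx := by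
      haveI : Fintype Cx := Fintype.ofFinite _
      haveI := hcyc
      by_contra hnot
      have hle := IsCyclic.card_pow_eq_one_le (α := Cx) hr.pos
      have hsub : insert yy ((Finset.range r).image (xx ^ ·)) ⊆
          Finset.univ.filter fun c : Cx => c ^ r = 1 := by
        intro c hc
        rw [Finset.mem_filter]
        refine ⟨Finset.mem_univ _, ?_⟩
        rcases Finset.mem_insert.1 hc with rfl | hc
        · exact hyy
        · obtain ⟨i, -, rfl⟩ := Finset.mem_image.1 hc
          rw [← pow_mul, mul_comm, pow_mul, ← hxx, pow_orderOf_eq_one, one_pow]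
      have := (Finset.card_le_card hsub).trans hle
      rw [Finset.card_insert_of_notMem, Finset.card_image_of_injOn, Finset.card_range] at this
      · omega
      · intro i hi j hj h
        exact pow_injOn_Iio_orderOf (by simpa [hxx] using hi) (by simpa [hxx] using hj) h
      · intro hc
        obtain ⟨i, -, hi⟩ := Finset.mem_image.1 hc
        exact hnot (hi ▸ Subgroup.npow_mem_zpowers _ _)
    obtain ⟨i, hi⟩ := Subgroup.mem_zpowers_iff.1 hmem
    exact Subgroup.mem_zpowers_iff.2 ⟨i, hinj (by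
      rw [map_zpow]
      exact congrArg Subtype.val hi)⟩
  have hnormal : (R : Subgroup H).Normal → p ≤ Nat.card (ConjClasses H) := fun hN =>
    classes_ge_of_normal_ppd ρ hinj ht hn hp5 hr hrp hord hx fun h =>
      hunique _ (hN.conj_mem _ hxR h) (by rw [← MulAut.conj_apply, MulEquiv.orderOf_eq, hx])
  -- the complex character
  obtain ⟨τ, hτ⟩ := exists_character (p := p) ((hp.coprime_iff_not_dvd.2 hco).symm)
    ((Units.coeHom (Matrix (Fin n) (Fin n) (ZMod p))).comp ρ) (fun g h e => hinj (Units.ext e))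
  have hfaith : ∀ g : H, τ.character g = τ.character 1 → g = 1 := fun g hg =>
    hτ (((CfsgLib.Codegree.char_eq_one_iff τ g).1 hg).trans (map_one τ).symm)
  have hdeg : Cfsg.charDegree τ.character = n := by
    rw [Cfsg.charDegree, Representation.char_one, Module.finrank_fin_fun]
    simp
  have hχc : Cfsg.IsCharacter H τ.character := CfsgLib.Characters.isCharacter_character τ
  by_cases hbig : n ^ 2 + 1 < r ^ a
  · refine hnormal (Cfsg.Agent.S4485.result r hr (hrd.trans hdiv) R (fun y hy hy1 => ?_) a ha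
      τ.character hχc hfaith (by rw [hdeg]; exact hbig))
    refine le_antisymm ?_ (Subgroup.centralizer_le (Set.singleton_subset_iff.2 hy))
    obtain ⟨b, hb⟩ := IsPGroup.iff_orderOf.1 R.isPGroup' ⟨y, hy⟩
    have hb0 : b ≠ 0 := fun h => hy1 (by
      rw [h, pow_zero, orderOf_eq_one_iff] at hb
      exact congrArg Subtype.val hb)
    rw [← Subgroup.orderOf_coe] at hb
    set w := y ^ r ^ (b - 1) with hwdef
    have hw : orderOf w = r := by
      have hdd : r ^ (b - 1) ∣ orderOf y := by rw [hb]; exact pow_dvd_pow r (Nat.sub_le b 1)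
      rw [hwdef, orderOf_pow_of_dvd (pow_ne_zero _ hr.ne_zero) hdd, hb,
        Nat.pow_div (Nat.sub_le b 1) hr.pos, show b - (b - 1) = 1 by omega, pow_one]
    intro c hc s hs
    rw [Subgroup.mem_centralizer_singleton_iff] at hc
    have hcw : Commute c w := (show Commute c y from hc).pow_right _
    have hxy : Commute x w := ((hRx y hy).symm).pow_right _
    have hcx : Commute c x := hCc w hw c x hcw hxy
    exact (hCc x hx s c (hRx s hs) hcx).eq
  have ha1 : a = 1 := by
    have h1 : a ≠ 0 := fun h => by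
      rw [h, pow_zero] at ha
      rw [ha] at hrR
      exact hr.one_lt.ne' (Nat.dvd_one.1 hrR)
    by_contra hne
    exact hbig (lt_of_lt_of_le (show n ^ 2 + 1 < (n + 1) ^ 2 by nlinarith)
      ((Nat.pow_le_pow_left hnr' 2).trans (Nat.pow_le_pow_right hr.pos (by omega))))
  subst ha1
  rw [pow_one] at ha
  have hsq : ¬ r ^ 2 ∣ Nat.card H := fun h => by
    obtain ⟨K, hK⟩ := Sylow.exists_subgroup_card_pow_prime r h
    obtain ⟨Q, hQ⟩ := (IsPGroup.of_card hK).exists_le_sylow
    have := Subgroup.card_dvd_of_le hQ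
    rw [hK, Q.card_eq_multiplicity, ← R.card_eq_multiplicity, ha] at this
    have := Nat.le_of_dvd hr.pos this
    nlinarith
  have hr2n : 2 * n + 1 ≤ r := by
    rcases hlarge with h | h
    · obtain ⟨m, hm⟩ := hnr
      have h2 : 2 ≤ m := by
        by_contra hc
        have : n * m ≤ n * 1 := Nat.mul_le_mul_left _ (by omega)
        omega
      have : n * 2 ≤ n * m := Nat.mul_le_mul_left _ h2
      omega
    · exact absurd (h.trans hdiv) hsq
  by_cases hnn : ∀ N : Subgroup H, N.Normal → Nat.card N ≠ r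
  · rcases hr2n.lt_or_eq with hlt | heq
    · have := Cfsg.Agent.S4503.result r hr (hrd.trans hdiv) hsq hnn τ.character hχc hfaith
      omega
    · obtain ⟨e⟩ := Cfsg.Agent.S4504.result r hr (hrd.trans hdiv) hsq hnn τ.character hχc hfaith
        (by omega)
      subst heq
      have hodd : Odd (Fintype.card (ZMod (2 * n + 1))) := by rw [ZMod.card]; exact ⟨n, by ring⟩
      have hpsl := CfsgLib.Linear.card_PSL_two_odd (F := ZMod (2 * n + 1)) hodd
      rw [ZMod.card] at hpsl
      have hsq1 : (2 * n + 1) ^ 2 - 1 = 2 * (2 * n * (n + 1)) :=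
        Nat.sub_eq_of_eq_add (by ring)
      rw [hsq1] at hpsl
      have hcard : Nat.card H = Nat.card (Subgroup.center H) * ((2 * n + 1) * (2 * n) * (n + 1)) := by
        rw [← (Subgroup.center H).card_mul_index, Subgroup.index_eq_card, Nat.card_congr e.toEquiv]
        congr 1
        refine Nat.eq_of_mul_eq_mul_left (two_pos) (hpsl.trans (by ring))
      rw [hcard] at hdiv
      refine (center_arith hp hp5 hn hr hord hdiv Nat.card_pos).trans ?_
      refine Nat.card_le_card_of_injective (fun c : Subgroup.center H => ConjClasses.mk (c : H)) ?_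
      intro c d h
      obtain ⟨g, hg⟩ := isConj_iff.1 (ConjClasses.mk_eq_mk_iff_isConj.1 h)
      refine Subtype.ext ?_
      rw [← hg, Subgroup.mem_center_iff.1 c.2 g, mul_inv_cancel_right]
  · push Not at hnn
    obtain ⟨N, hN, hNr⟩ := hnn
    refine hnormal ?_
    obtain ⟨Q, hQ⟩ := (IsPGroup.of_card (n := 1) (by rw [hNr, pow_one]) : IsPGroup r N).exists_le_sylow
    obtain ⟨g, hg⟩ := MulAction.exists_smul_eq H Q R
    have hNR : N = (R : Subgroup H) := by
      refine Subgroup.eq_of_le_of_card_ge ?_ (by rw [ha, hNr])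
      rw [← hg]
      intro y hy
      rw [Sylow.coe_subgroup_smul, Subgroup.mem_pointwise_smul_iff_inv_smul_mem]
      refine hQ ?_
      have := hN.conj_mem y hy g⁻¹
      simpa [MulAut.smul_def] using this
    exact hNR ▸ hN

end CfsgLib.CoprimeTrans
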