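import Mathlib

/-!
# The centraliser partition equation of a two-dimensional linear group
-/

set_option autoImplicit false

namespace CfsgLib.CoprimeTrans

open Finset

/-- The possible types: many classes, or tetrahedral, octahedral, icosahedral. -/
def TypeConcl (N : ℕ) (K : ℚ) : Prop :=
  (N : ℚ) ≤ 4 * K ∨ (N = 12 ∧ K = 7 / 2) ∨ (N = 24 ∧ K = 4) ∨ (N = 60 ∧ K = 9 / 2)

theorem one_term {N a e : ℕ} (hN : 0 < N) (ha : 2 ≤ a) (he : e = 1 ∨ e = 2) (hdvd : a * e ∣ N)
    (h : ((a : ℚ) - 1) / (a * e) = 1 - 1 / N) : TypeConcl N (1 + ((a : ℚ) - 1) / e) := by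
  have hle : ((a * e : ℕ) : ℚ) ≤ N := by exact_mod_cast Nat.le_of_dvd hN hdvd
  have ha' : (2 : ℚ) ≤ a := by exact_mod_cast ha
  have hN' : (0 : ℚ) < N := by exact_mod_cast hN
  push_cast at hle
  rcases he with rfl | rfl
  · left
    field_simp at h
    push_cast at *
    nlinarith
  · exfalso
    push_cast at *
    field_simp at h
    nlinarith

theorem two_terms_mixed {N a b : ℕ} (hN : 0 < N) (ha : 2 ≤ a) (hb : 2 ≤ b)
    (h : ((a : ℚ) - 1) / a + ((b : ℚ) - 1) / (b * 2) = 1 - 1 / N) :
    TypeConcl N (1 + ((a : ℚ) - 1) + ((b : ℚ) - 1) / 2) := by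
  have ha' : (2 : ℚ) ≤ a := by exact_mod_cast ha
  have hb' : (2 : ℚ) ≤ b := by exact_mod_cast hb
  have hN' : (0 : ℚ) < N := by exact_mod_cast hN
  field_simp at h
  have ha4 : a ≤ 3 := by
    by_contra hc
    have : (4 : ℚ) ≤ a := by exact_mod_cast (by omega : 4 ≤ a)
    nlinarith [mul_le_mul_of_nonneg_left this (mul_nonneg hN'.le (by linarith : (0 : ℚ) ≤ b)),
      mul_le_mul_of_nonneg_left hb' (mul_nonneg hN'.le (by linarith : (0 : ℚ) ≤ a))]
  interval_cases a
  · left
    push_cast at *
    have : (N : ℚ) = 2 * b := by nlinarith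
    linarith
  · push_cast at *
    have hb3 : b ≤ 2 := by
      by_contra hc
      have : (3 : ℚ) ≤ b := by exact_mod_cast (by omega : 3 ≤ b)
      nlinarith [mul_le_mul_of_nonneg_left this hN'.le]
    obtain rfl : b = 2 := by omega
    push_cast at *
    right; left
    refine ⟨?_, by norm_num⟩
    exact_mod_cast (show (N : ℚ) = 12 by linarith)

theorem three_terms_sorted {N a b c : ℕ} (hN : 0 < N) (ha : 2 ≤ a) (hab : a ≤ b) (hbc : b ≤ c)
    (h : 1 / (a : ℚ) + 1 / b + 1 / c = 1 + 2 / N) :
    TypeConcl N (1 + ((a : ℚ) - 1) / 2 + ((b : ℚ) - 1) / 2 + ((c : ℚ) - 1) / 2) := by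
  have hN' : (0 : ℚ) < N := by exact_mod_cast hN
  have h2N : (0 : ℚ) < 2 / N := by positivity
  have hab' : (a : ℚ) ≤ b := by exact_mod_cast hab
  have hbc' : (b : ℚ) ≤ c := by exact_mod_cast hbc
  have ha' : (2 : ℚ) ≤ a := by exact_mod_cast ha
  obtain rfl : a = 2 := by
    by_contra hc
    have h3 : (3 : ℚ) ≤ a := by exact_mod_cast (by omega : 3 ≤ a)
    have h1 : 1 / (a : ℚ) ≤ 1 / 3 := one_div_le_one_div_of_le (by norm_num) h3
    have h2 : 1 / (b : ℚ) ≤ 1 / 3 := one_div_le_one_div_of_le (by norm_num) (h3.trans hab')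
    have h4 : 1 / (c : ℚ) ≤ 1 / 3 :=
      one_div_le_one_div_of_le (by norm_num) ((h3.trans hab').trans hbc')
    linarith
  push_cast at *
  have hb3 : b ≤ 3 := by
    by_contra hc
    have h3 : (4 : ℚ) ≤ b := by exact_mod_cast (by omega : 4 ≤ b)
    have h1 : 1 / (b : ℚ) ≤ 1 / 4 := one_div_le_one_div_of_le (by norm_num) h3
    have h2 : 1 / (c : ℚ) ≤ 1 / 4 := one_div_le_one_div_of_le (by norm_num) (h3.trans hbc')
    linarith
  interval_cases b
  · left
    push_cast at *
    have hc0 : (0 : ℚ) < c := by linarith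
    field_simp at h
    nlinarith
  · have hc5 : c ≤ 5 := by
      by_contra hc
      have h3 : (6 : ℚ) ≤ c := by exact_mod_cast (by omega : 6 ≤ c)
      have h2 : 1 / (c : ℚ) ≤ 1 / 6 := one_div_le_one_div_of_le (by norm_num) h3
      push_cast at *
      linarith
    push_cast at *
    right
    interval_cases c <;> push_cast at * <;> field_simp at h
    · left; exact ⟨by exact_mod_cast (show (N : ℚ) = 12 by linarith), by norm_num⟩
    · right; left; exact ⟨by exact_mod_cast (show (N : ℚ) = 24 by linarith), by norm_num⟩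
    · right; right; exact ⟨by exact_mod_cast (show (N : ℚ) = 60 by linarith), by norm_num⟩

theorem three_terms {N a b c : ℕ} (hN : 0 < N) (ha : 2 ≤ a) (hb : 2 ≤ b) (hc : 2 ≤ c)
    (h : 1 / (a : ℚ) + 1 / b + 1 / c = 1 + 2 / N) :
    TypeConcl N (1 + ((a : ℚ) - 1) / 2 + ((b : ℚ) - 1) / 2 + ((c : ℚ) - 1) / 2) := by
  rcases le_total a b with h1 | h1 <;> rcases le_total b c with h2 | h2 <;>
    rcases le_total a c with h3 | h3
  all_goals first
    | (convert three_terms_sorted hN ha h1 h2 (by linarith) using 1; done)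
    | (convert three_terms_sorted hN ha h3 h2 (by linarith) using 1; ring; done)
    | (convert three_terms_sorted hN hb h1 h3 (by linarith) using 1; ring; done)
    | (convert three_terms_sorted hN hb h2 h3 (by linarith) using 1; ring; done)
    | (convert three_terms_sorted hN hc h3 h1 (by linarith) using 1; ring; done)
    | (convert three_terms_sorted hN hc h2 h1 (by linarith) using 1; ring; done)

/-- The classification of the solutions of the partition equation. -/
theorem typeConcl_of_equation {ι : Type*} (s : Finset ι) (a e : ι → ℕ) {N : ℕ} (hN : 0 < N)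
    (ha : ∀ i ∈ s, 2 ≤ a i) (he : ∀ i ∈ s, e i = 1 ∨ e i = 2) (hdvd : ∀ i ∈ s, a i * e i ∣ N)
    (hsum : ∑ i ∈ s, ((a i : ℚ) - 1) / (a i * e i) = 1 - 1 / N) :
    TypeConcl N (1 + ∑ i ∈ s, ((a i : ℚ) - 1) / e i) := by
  classical
  have hN' : (0 : ℚ) < N := by exact_mod_cast hN
  have h1N : (0 : ℚ) < 1 / N := by positivity
  have hterm : ∀ i ∈ s, (1 / 4 : ℚ) ≤ ((a i : ℚ) - 1) / (a i * e i) ∧
      (e i = 1 → (1 / 2 : ℚ) ≤ ((a i : ℚ) - 1) / (a i * e i)) := by
    intro i hi
    have : (2 : ℚ) ≤ a i := by exact_mod_cast ha i hi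
    rcases he i hi with h | h
    · rw [h]
      push_cast
      have : (1 / 2 : ℚ) ≤ ((a i : ℚ) - 1) / (a i * 1) := by
        rw [le_div_iff₀ (by linarith)]; linarith
      exact ⟨le_trans (by norm_num) this, fun _ => this⟩
    · rw [h]
      push_cast
      refine ⟨?_, fun h => absurd h (by norm_num)⟩
      rw [le_div_iff₀ (by linarith)]
      linarith
  have hcard : s.card ≤ 3 := by
    by_contra hc
    have h4 : (4 : ℚ) ≤ s.card := by exact_mod_cast (by omega : 4 ≤ s.card)
    have := Finset.card_nsmul_le_sum s _ (1 / 4 : ℚ) fun i hi => (hterm i hi).1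
    rw [hsum, nsmul_eq_mul] at this
    linarith
  interval_cases hs : s.card
  · rw [Finset.card_eq_zero] at hs
    subst hs
    simp only [Finset.sum_empty] at hsum ⊢
    left
    have : (N : ℚ) = 1 := by field_simp at hsum; linarith
    linarith
  · obtain ⟨x, rfl⟩ := Finset.card_eq_one.1 hs
    simp only [Finset.sum_singleton] at hsum ⊢
    simp only [Finset.mem_singleton, forall_eq] at ha he hdvd
    exact one_term hN ha he hdvd hsum
  · obtain ⟨x, y, hxy, rfl⟩ := Finset.card_eq_two.1 hs
    simp only [Finset.sum_pair hxy] at hsum ⊢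
    simp only [Finset.mem_insert, Finset.mem_singleton, forall_eq_or_imp, forall_eq] at ha he hdvd hterm
    rcases he.1 with hx | hx <;> rcases he.2 with hy | hy
    · have h1 := hterm.1.2 hx; have h2 := hterm.2.2 hy
      linarith
    · rw [hx, hy] at hsum ⊢
      push_cast at *
      rw [mul_one] at hsum
      convert two_terms_mixed hN ha.1 ha.2 hsum using 1
      ring
    · rw [hx, hy] at hsum ⊢
      push_cast at *
      rw [mul_one, add_comm] at hsum
      convert two_terms_mixed hN ha.2 ha.1 hsum using 1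
      ring
    · exfalso
      have hxN : ((a x * e x : ℕ) : ℚ) ≤ N := by exact_mod_cast Nat.le_of_dvd hN hdvd.1
      have hyN : ((a y * e y : ℕ) : ℚ) ≤ N := by exact_mod_cast Nat.le_of_dvd hN hdvd.2
      rw [hx, hy] at hsum
      rw [hx] at hxN
      rw [hy] at hyN
      push_cast at *
      have h2x : (2 : ℚ) ≤ a x := by exact_mod_cast ha.1
      have h2y : (2 : ℚ) ≤ a y := by exact_mod_cast ha.2
      field_simp at hsum
      nlinarith [mul_le_mul_of_nonneg_right hxN (by linarith : (0 : ℚ) ≤ a y),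
        mul_le_mul_of_nonneg_right hyN (by linarith : (0 : ℚ) ≤ a x),
        mul_pos (by linarith : (0 : ℚ) < a x) (by linarith : (0 : ℚ) < a y)]
  · obtain ⟨x, y, z, hxy, hxz, hyz, rfl⟩ := Finset.card_eq_three.1 hs
    have hx' : x ∈ ({x, y, z} : Finset ι) := by simp
    have hy' : y ∈ ({x, y, z} : Finset ι) := by simp
    have hz' : z ∈ ({x, y, z} : Finset ι) := by simp
    rw [Finset.sum_insert (by simp [hxy, hxz]), Finset.sum_pair hyz] at hsum ⊢
    have hxe : e x = 2 := (he x hx').resolve_left fun h => by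
      linarith [(hterm x hx').2 h, (hterm y hy').1, (hterm z hz').1]
    have hye : e y = 2 := (he y hy').resolve_left fun h => by
      linarith [(hterm x hx').1, (hterm y hy').2 h, (hterm z hz').1]
    have hze : e z = 2 := (he z hz').resolve_left fun h => by
      linarith [(hterm x hx').1, (hterm y hy').1, (hterm z hz').2 h]
    rw [hxe, hye, hze] at hsum ⊢
    push_cast at *
    have key : ∀ w : ℚ, 2 ≤ w → (w - 1) / (w * 2) = 1 / 2 - 1 / 2 * (1 / w) := by
      intro w hw
      field_simp
    rw [key _ (by exact_mod_cast ha x hx'), key _ (by exact_mod_cast ha y hy'),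
      key _ (by exact_mod_cast ha z hz')] at hsum
    have h2 : (2 : ℚ) / N = 2 * (1 / N) := by ring
    convert three_terms hN (ha x hx') (ha y hy') (ha z hz') (by linarith) using 1
    ring

end CfsgLib.CoprimeTrans
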